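import Groth.Prelude.Def_AlgSpOX2
import Groth.Prelude.Def_AlgSpInf
import Groth.Agent.AlgSpLib.EtaleLift
import Groth.Agent.AlgSpLib.Bootstrap
import Groth.Agent.AlgSpLib.Descend
import Groth.Agent.ThickQuotLib.Scheme
import Groth.Agent.EtInvLib.Equiv
import Groth.Agent.EtInvLib.Local
import Groth.Agent.S10212

/-!
# The small etale site is invariant under thickenings of algebraic spaces
-/

set_option autoImplicit false
set_option linter.all false
set_option backward.isDefEq.respectTransparency false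
set_option backward.isDefEq.respectTransparency.types false

noncomputable section

universe u

open CategoryTheory CategoryTheory.Limits AlgebraicGeometry AlgSp AlgSpLib

namespace EtThickLib

variable {S : Scheme.{u}}

theorem mono_of_thick {F G : Sp S} {i : F ⟶ G} (hi : IsThickMor i) : Mono i :=
  mono_of_repWith (fun g (_ : IsClosedImmersion g) => inferInstance) (repWith_mono inf_le_left hi)

/-- A morphism into an etale scheme is determined by its restriction along a thickening. -/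
theorem eq_of_restrict {Y : Sp S} (hY : IsAlgSpace Y) {T T₀ V : Over S} {ι : T₀ ⟶ T}
    (hι : IsThickMor ((yon S).map ι)) {e : (yon S).obj V ⟶ Y} (he : RepWith @Etale e) {v v' : T ⟶ V}
    (h : (yon S).map v ≫ e = (yon S).map v' ≫ e) (h₀ : ι ≫ v = ι ≫ v') : v = v' :=
  (yon S).map_injective (lift_unique (map_surjective_of_repWith (repWith_mono inf_le_right hι))
    (openImmersion_diagonal_of_isEtaleMor (IsAlgSpace.yon_obj V) hY (isEtaleMor_of_repWith he))
    (by rw [← Functor.map_comp, ← Functor.map_comp, h₀]) h)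

/-- A morphism into an etale scheme extends along a thickening. -/
theorem exists_extend {Y : Sp S} (hY : IsAlgSpace Y) {T T₀ V : Over S} {ι : T₀ ⟶ T}
    (hι : IsThickMor ((yon S).map ι)) {e : (yon S).obj V ⟶ Y} (he : RepWith @Etale e) (a : T₀ ⟶ V)
    (g : (yon S).obj T ⟶ Y) (w : (yon S).map a ≫ e = (yon S).map ι ≫ g) :
    ∃ v : T ⟶ V, ι ≫ v = a ∧ (yon S).map v ≫ e = g := by
  obtain ⟨l, ⟨hl₁, hl₂⟩, -⟩ := existsUnique_lift_of_isEtaleMor (IsAlgSpace.yon_obj T₀) (IsAlgSpace.yon_obj T)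
    (IsAlgSpace.yon_obj V) hY hι (isEtaleMor_of_repWith he) ((yon S).map a) g w
  obtain ⟨v, rfl⟩ := (yon S).map_surjective l
  exact ⟨v, (yon S).map_injective (by rw [Functor.map_comp, hl₁]), hl₂⟩

/-- Etale schemes lift along a thickening of schemes. -/
theorem exists_lift_over {U U₀ V₀ : Over S} (j : U₀ ⟶ U) (hj : IsThickMor ((yon S).map j)) (p₀ : V₀ ⟶ U₀)
    (hp₀ : Etale p₀.left) :
    ∃ (V : Over S) (p : V ⟶ U) (Φ : V₀ ⟶ V), Etale p.left ∧ IsPullback Φ p₀ p j := by
  haveI : IsClosedImmersion j.left :=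
    (repWith_yon_map_iff (P := (@IsClosedImmersion : MorphismProperty Scheme.{u})) j).1 (repWith_mono inf_le_left hj)
  haveI : Surjective j.left :=
    (repWith_yon_map_iff (P := (@Surjective : MorphismProperty Scheme.{u})) j).1 (repWith_mono inf_le_right hj)
  obtain ⟨W, p, Φ, hp, sq⟩ := EtInvLib.exists_lift_of_local
    (fun x => EtInvLib.exists_liftData j.left p₀.left x)
  refine ⟨Over.mk (p ≫ U.hom), Over.homMk p, Over.homMk Φ ?_, hp, IsPullback.of_map (Over.forget S) ?_ ?_⟩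
  · change Φ ≫ p ≫ U.hom = V₀.hom
    rw [reassoc_of% sq.w, Over.w j, Over.w p₀]
  · exact Over.OverMorphism.ext sq.w
  · exact sq

theorem epi_of_etale_surjective {F G : Sp S} {f : F ⟶ G} (he : RepWith @Etale f) (hs : RepWith @Surjective f) :
    Epi f := by
  haveI := isLocallySurjective_of_repWith (repWith_mono (fun _ _ g (hg : Etale g) => inferInstanceAs (Flat g)) he)
    (repWith_mono (fun _ _ g (hg : Etale g) => inferInstanceAs (LocallyOfFinitePresentation g)) he) hs
  exact Sheaf.epi_of_isLocallySurjective f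

/-- Every scheme etale over the closed subspace lifts. -/
theorem exists_lift {F Y : Sp S} {i : F ⟶ Y} (hY : IsAlgSpace Y) (hi : IsThickMor i) {W₀ : Over S}
    (a₀ : (yon S).obj W₀ ⟶ F) (ha₀ : RepWith @Etale a₀) :
    ∃ (W : Over S) (aW : (yon S).obj W ⟶ Y) (k : W₀ ⟶ W), RepWith @Etale aW ∧
      IsPullback a₀ ((yon S).map k) i aW := by
  haveI := mono_of_thick hi
  obtain ⟨U, b, hb, hbs⟩ := hY.atlas
  let U₀ := hi.1.pullback b
  let j : U₀ ⟶ U := hi.1.snd b
  let b₀ : (yon S).obj U₀ ⟶ F := hi.1.fst b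
  have sqU : IsPullback b₀ ((yon S).map j) i b := hi.1.isPullback b
  have hj : IsThickMor ((yon S).map j) := repWith_of_isPullback sqU hi
  have hb₀ : RepWith @Etale b₀ := repWith_of_isPullback sqU.flip hb
  have hb₀s : RepWith @Surjective b₀ := repWith_of_isPullback sqU.flip hbs
  -- the pullback to the chart
  let V₀ := ha₀.1.pullback b₀
  let p₀ : V₀ ⟶ U₀ := ha₀.1.snd b₀
  let m : (yon S).obj V₀ ⟶ (yon S).obj W₀ := ha₀.1.fst b₀
  have sqV0 : IsPullback m ((yon S).map p₀) a₀ b₀ := ha₀.1.isPullback b₀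
  have hm : RepWith @Etale m := repWith_of_isPullback sqV0.flip hb₀
  have hms : RepWith @Surjective m := repWith_of_isPullback sqV0.flip hb₀s
  haveI := epi_of_etale_surjective hm hms
  have hp₀ : Etale p₀.left := (repWith_yon_map_iff (P := (@Etale : MorphismProperty Scheme.{u})) p₀).1
    (repWith_of_isPullback sqV0 ha₀)
  obtain ⟨V, p, Φ, hp, sqΦ⟩ := exists_lift_over j hj p₀ hp₀
  let e : (yon S).obj V ⟶ Y := (yon S).map p ≫ b
  have sqV : IsPullback (m ≫ a₀) ((yon S).map Φ) i e := by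
    rw [sqV0.w]
    exact (sqΦ.map (yon S)).flip.paste_horiz sqU
  have he : RepWith @Etale e :=
    repWith_comp ((repWith_yon_map_iff (P := (@Etale : MorphismProperty Scheme.{u})) p).2 hp) hb
  have hΦ : IsThickMor ((yon S).map Φ) := repWith_of_isPullback sqV hi
  haveI := mono_of_thick hΦ
  have hΦinj : ∀ {Z : Over S} (z z' : Z ⟶ V₀), z ≫ Φ = z' ≫ Φ → z = z' := fun z z' h =>
    (yon S).map_injective ((cancel_mono ((yon S).map Φ)).1 (by rw [← Functor.map_comp, ← Functor.map_comp, h]))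
  -- the kernel pair on the closed subspace
  let Q₀ := hm.1.pullback m
  let q₀ : Q₀ ⟶ V₀ := hm.1.snd m
  obtain ⟨q₀', hq₀'⟩ := (yon S).map_surjective (hm.1.fst m)
  have sqQ0 : IsPullback ((yon S).map q₀') ((yon S).map q₀) m m := hq₀' ▸ hm.1.isPullback m
  obtain ⟨Q, q, ΦQ, hq, sqQ⟩ := exists_lift_over Φ hΦ q₀
    ((repWith_yon_map_iff (P := (@Etale : MorphismProperty Scheme.{u})) q₀).1 (repWith_of_isPullback sqQ0 hm))
  have hΦQ : IsThickMor ((yon S).map ΦQ) := repWith_of_isPullback ((sqQ.map (yon S)).flip) hΦ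
  have hqe : RepWith @Etale ((yon S).map q) :=
    (repWith_yon_map_iff (P := (@Etale : MorphismProperty Scheme.{u})) q).2 hq
  obtain ⟨q', hq'₁, hq'₂⟩ := exists_extend hY hΦQ he (q₀' ≫ Φ) ((yon S).map q ≫ e) (by
    rw [← Category.assoc ((yon S).map ΦQ), ← Functor.map_comp, sqQ.w]
    simp only [Functor.map_comp, Category.assoc, ← sqV.w]
    rw [sqQ0.w_assoc])
  have hq' : Etale q'.left :=
    (repWith_yon_map_iff (P := (@Etale : MorphismProperty Scheme.{u})) q').1 (by
      have := isEtaleMor_of_comp (IsAlgSpace.yon_obj V) (f := (yon S).map q') (g := e)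
        (hq'₂ ▸ isEtaleMor_of_repWith (repWith_comp hqe he)) (isEtaleMor_of_repWith he)
      exact (repWith_yon_map_iff (P := (@Etale : MorphismProperty Scheme.{u})) q').2
        ((isEtaleMor_yon_map_iff q').1 this))
  -- restriction of points
  have restrict : ∀ {Z : Over S} (v : Z ⟶ V) (g₀ : (yon S).obj Z ⟶ F), g₀ ≫ i = (yon S).map v ≫ e →
      ∃ z₀ : Z ⟶ V₀, z₀ ≫ Φ = v := fun {Z} v g₀ h => by
    obtain ⟨z₀, hz⟩ := (yon S).map_surjective (sqV.lift g₀ ((yon S).map v) h)
    exact ⟨z₀, (yon S).map_injective (by rw [Functor.map_comp, hz, sqV.lift_snd])⟩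
  have e_of : ∀ {Z : Over S} (z₀ : Z ⟶ V₀), (yon S).map (z₀ ≫ Φ) ≫ e = ((yon S).map z₀ ≫ m ≫ a₀) ≫ i :=
    fun z₀ => by rw [Functor.map_comp, Category.assoc, ← sqV.w]; simp only [Category.assoc]
  let rel : ∀ T : Over S, (T ⟶ V) → (T ⟶ V) → Prop := fun T v v' => (yon S).map v ≫ e = (yon S).map v' ≫ e ∧
    ∀ (Z : Over S) (z : Z ⟶ T) (z₀ z₀' : Z ⟶ V₀), z₀ ≫ Φ = z ≫ v → z₀' ≫ Φ = z ≫ v' →
      (yon S).map z₀ ≫ m = (yon S).map z₀' ≫ m
  have key : ∀ (T : Over S) (v v' : T ⟶ V), (∃ r : T ⟶ Q, r ≫ q' = v ∧ r ≫ q = v') ↔ rel T v v' := by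
    intro T v v'
    constructor
    · rintro ⟨r, rfl, rfl⟩
      refine ⟨by simp only [Functor.map_comp, Category.assoc, hq'₂], fun Z z z₀ z₀' h h' => ?_⟩
      obtain ⟨r₀, hr₁, hr₂⟩ : ∃ r₀ : Z ⟶ Q₀, r₀ ≫ ΦQ = z ≫ r ∧ r₀ ≫ q₀ = z₀' :=
        ⟨sqQ.lift (z ≫ r) z₀' (by rw [h', Category.assoc]), sqQ.lift_fst _ _ _, sqQ.lift_snd _ _ _⟩
      have hr₃ : r₀ ≫ q₀' = z₀ := hΦinj _ _ (by
        rw [Category.assoc, ← hq'₁, ← Category.assoc, hr₁, Category.assoc, h])
      rw [← hr₂, ← hr₃, Functor.map_comp, Functor.map_comp, Category.assoc, Category.assoc, sqQ0.w]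
    · rintro ⟨he', hm'⟩
      let g := (yon S).map v' ≫ e
      let T₀ := hi.1.pullback g
      let ι : T₀ ⟶ T := hi.1.snd g
      have sqT : IsPullback (hi.1.fst g) ((yon S).map ι) i g := hi.1.isPullback g
      have hι : IsThickMor ((yon S).map ι) := repWith_of_isPullback sqT hi
      obtain ⟨z₀, hz⟩ := restrict (ι ≫ v) (hi.1.fst g)
        (by rw [sqT.w, Functor.map_comp, Category.assoc, he'])
      obtain ⟨z₀', hz'⟩ := restrict (ι ≫ v') (hi.1.fst g) (by rw [sqT.w, Functor.map_comp, Category.assoc])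
      obtain ⟨r₀, hr₀⟩ := (yon S).map_surjective
        (sqQ0.lift ((yon S).map z₀) ((yon S).map z₀') (hm' _ ι z₀ z₀' hz hz'))
      have hr₁ : r₀ ≫ q₀' = z₀ := (yon S).map_injective (by rw [Functor.map_comp, hr₀, sqQ0.lift_fst])
      have hr₂ : r₀ ≫ q₀ = z₀' := (yon S).map_injective (by rw [Functor.map_comp, hr₀, sqQ0.lift_snd])
      obtain ⟨r, hr, hrq⟩ := exists_extend (IsAlgSpace.yon_obj V) hι hqe (r₀ ≫ ΦQ) ((yon S).map v') (by
        rw [← Functor.map_comp, ← Functor.map_comp, Category.assoc, sqQ.w, reassoc_of% hr₂, hz'])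
      have hrq' : r ≫ q = v' := (yon S).map_injective (by rw [Functor.map_comp, hrq])
      refine ⟨r, eq_of_restrict hY hι he ?_ ?_, hrq'⟩
      · rw [Functor.map_comp, Category.assoc, hq'₂, ← Category.assoc, hrq, he']
      · rw [reassoc_of% hr, hq'₁, reassoc_of% hr₁, hz]
  have hrel : IsEtaleEqvRel q q' :=
    { injective := fun T r r' h₁ h₂ => by
        let g := (yon S).map (r ≫ q) ≫ e
        let ι : hi.1.pullback g ⟶ T := hi.1.snd g
        have sqT : IsPullback (hi.1.fst g) ((yon S).map ι) i g := hi.1.isPullback g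
        obtain ⟨z₀', hz'⟩ := restrict (ι ≫ r ≫ q) (hi.1.fst g) (by rw [sqT.w, Functor.map_comp _ ι, Category.assoc])
        let r₀ := sqQ.lift (ι ≫ r) z₀' (by rw [hz', Category.assoc])
        let r₀' := sqQ.lift (ι ≫ r') z₀' (by rw [hz', Category.assoc, h₂])
        have hfst : r₀ ≫ ΦQ = ι ≫ r := sqQ.lift_fst _ _ _
        have hfst' : r₀' ≫ ΦQ = ι ≫ r' := sqQ.lift_fst _ _ _
        have hsnd : r₀ ≫ q₀ = r₀' ≫ q₀ := by simp [r₀, r₀']
        have hq₀ : r₀ ≫ q₀' = r₀' ≫ q₀' := hΦinj _ _ (by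
          rw [Category.assoc, Category.assoc, ← hq'₁, reassoc_of% hfst, reassoc_of% hfst', h₁])
        have : r₀ = r₀' := (yon S).map_injective (sqQ0.hom_ext
          (by rw [← Functor.map_comp, ← Functor.map_comp, hq₀]) (by rw [← Functor.map_comp, ← Functor.map_comp, hsnd]))
        refine eq_of_restrict (IsAlgSpace.yon_obj V) (repWith_of_isPullback sqT hi) hqe
          (by rw [← Functor.map_comp, ← Functor.map_comp, h₂]) ?_
        rw [← hfst, ← hfst', this]
      equivalence := fun T => by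
        simp only [key]
        refine ⟨fun v => ⟨rfl, fun Z z z₀ z₀' h h' => ?_⟩, fun {v v'} h => ⟨h.1.symm, fun Z z z₀ z₀' a a' =>
          (h.2 Z z z₀' z₀ a' a).symm⟩, fun {v v' v''} h h' => ⟨h.1.trans h'.1, fun Z z z₀ z₀'' a a'' => ?_⟩⟩
        · rw [hΦinj z₀ z₀' (h.trans h'.symm)]
        · obtain ⟨z₀', a'⟩ := restrict (z ≫ v') ((yon S).map z₀ ≫ m ≫ a₀)
            (by rw [← e_of, a, Functor.map_comp, Functor.map_comp, Category.assoc, Category.assoc, h.1])
          exact (h.2 Z z z₀ z₀' a a').trans (h'.2 Z z z₀' z₀'' a' a'')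
      etale_left := hq
      etale_right := hq' }
  -- the space
  have hπ := isPresentation_qπ q q' hrel
  have hE : IsAlgSpace (QuotSh.quot Scheme.fppfPrecoverage q q') := isAlgSpace_quot q q' hrel
  have hker : ∀ {Z : Over S} (v v' : Z ⟶ V), (yon S).map v ≫ qπ q q' = (yon S).map v' ≫ qπ q q' → rel Z v v' := by
    intro Z v v' h
    obtain ⟨r, hr⟩ := (yon S).map_surjective (hπ.isPullback.lift _ _ h)
    exact (key Z v v').1 ⟨r, (yon S).map_injective (by rw [Functor.map_comp, hr, hπ.isPullback.lift_fst]),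
      (yon S).map_injective (by rw [Functor.map_comp, hr, hπ.isPullback.lift_snd])⟩
  haveI := epi_of_etale_surjective hπ.etale hπ.surjective
  obtain ⟨a, ha⟩ := exists_desc_of_atlas hπ.etale hπ.surjective e fun Z g g' h => (hker g g' h).1
  obtain ⟨k, hk⟩ := exists_desc_of_atlas hm hms ((yon S).map Φ ≫ qπ q q') fun Z z z' h => by
    obtain ⟨r₀, hr₀⟩ := (yon S).map_surjective (sqQ0.lift _ _ h)
    have h₁ : (yon S).map r₀ ≫ (yon S).map q₀' = (yon S).map z := by rw [hr₀, sqQ0.lift_fst]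
    have h₂ : (yon S).map r₀ ≫ (yon S).map q₀ = (yon S).map z' := by rw [hr₀, sqQ0.lift_snd]
    rw [← h₁, ← h₂, Category.assoc, Category.assoc, ← (yon S).map_comp_assoc q₀' Φ, ← hq'₁,
      ← (yon S).map_comp_assoc q₀ Φ, ← sqQ.w, Functor.map_comp, Functor.map_comp, Category.assoc,
      Category.assoc, hπ.isPullback.w]
  have hcomm : a₀ ≫ i = k ≫ a := by
    rw [← cancel_epi m, reassoc_of% hk, ha, ← sqV.w, Category.assoc]
  have sq : IsPullback a₀ k i a := by
    refine isPullback_of_forall_existsUnique hcomm fun T x y h => ?_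
    let c : hπ.etale.1.pullback y ⟶ T := hπ.etale.1.snd y
    obtain ⟨v, hv⟩ := (yon S).map_surjective (hπ.etale.1.fst y)
    have sqc : IsPullback ((yon S).map v) ((yon S).map c) (qπ q q') y := hv ▸ hπ.etale.1.isPullback y
    have hce : RepWith @Etale ((yon S).map c) := repWith_of_isPullback sqc hπ.etale
    have hcs : RepWith @Surjective ((yon S).map c) := repWith_of_isPullback sqc hπ.surjective
    haveI := epi_of_etale_surjective hce hcs
    have hve : ((yon S).map c ≫ x) ≫ i = (yon S).map v ≫ e := by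
      rw [Category.assoc, h, ← sqc.w_assoc, ha]
    obtain ⟨z₀, hz⟩ := restrict v _ hve
    obtain ⟨l, hl⟩ := exists_desc_of_atlas hce hcs ((yon S).map z₀ ≫ m) fun Z g g' hg => by
      have hgv : (yon S).map (g ≫ v) ≫ qπ q q' = (yon S).map (g' ≫ v) ≫ qπ q q' := by
        rw [Functor.map_comp, Functor.map_comp, Category.assoc, Category.assoc, sqc.w, reassoc_of% hg]
      simp only [← Functor.map_comp_assoc]
      exact (hker _ _ hgv).2 Z (𝟙 Z) (g ≫ z₀) (g' ≫ z₀) (by rw [Category.assoc, hz, Category.id_comp])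
        (by rw [Category.assoc, hz, Category.id_comp])
    refine ⟨l, ⟨?_, ?_⟩, fun l' hl' => ?_⟩
    · rw [← cancel_mono i, ← cancel_epi ((yon S).map c), Category.assoc l, reassoc_of% hl, ← Category.assoc ((yon S).map c) x i, hve,
        ← hz, e_of, Category.assoc, Category.assoc]
    · rw [← cancel_epi ((yon S).map c), reassoc_of% hl, hk, ← Functor.map_comp_assoc, hz, sqc.w]
    · -- `k` is a monomorphism on points
      obtain ⟨n, rfl⟩ := (yon S).map_surjective l'
      let c' : hm.1.pullback ((yon S).map n) ⟶ T := hm.1.snd ((yon S).map n)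
      obtain ⟨z₁, hz₁⟩ := (yon S).map_surjective (hm.1.fst ((yon S).map n))
      have sq₁ : IsPullback ((yon S).map z₁) ((yon S).map c') m ((yon S).map n) :=
        hz₁ ▸ hm.1.isPullback ((yon S).map n)
      haveI := epi_of_etale_surjective (repWith_of_isPullback sq₁ hm) (repWith_of_isPullback sq₁ hms)
      obtain ⟨l₁, hl₁⟩ := (yon S).map_surjective ((yon S).map c' ≫ l)
      let c'' : hm.1.pullback ((yon S).map l₁) ⟶ hm.1.pullback ((yon S).map n) := hm.1.snd ((yon S).map l₁)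
      obtain ⟨z₂, hz₂⟩ := (yon S).map_surjective (hm.1.fst ((yon S).map l₁))
      have sq₂ : IsPullback ((yon S).map z₂) ((yon S).map c'') m ((yon S).map l₁) :=
        hz₂ ▸ hm.1.isPullback ((yon S).map l₁)
      haveI := epi_of_etale_surjective (repWith_of_isPullback sq₂ hm) (repWith_of_isPullback sq₂ hms)
      have hlk : l ≫ k = y := by
        rw [← cancel_epi ((yon S).map c), reassoc_of% hl, hk, ← Functor.map_comp_assoc, hz, sqc.w]
      rw [← cancel_epi ((yon S).map c'), ← cancel_epi ((yon S).map c''), ← sq₁.w, ← hl₁, ← sq₂.w,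
        ← Functor.map_comp_assoc]
      refine (hker ((c'' ≫ z₁) ≫ Φ) (z₂ ≫ Φ) ?_).2 _ (𝟙 _) (c'' ≫ z₁) z₂ (Category.id_comp _).symm
        (Category.id_comp _).symm
      simp only [Functor.map_comp, Category.assoc]
      have e1 : (yon S).map l₁ ≫ k = (yon S).map c' ≫ y := by rw [hl₁, Category.assoc, hlk]
      rw [← hk, sq₁.w_assoc, sq₂.w_assoc, e1, hl'.2]
  -- it is a scheme
  have hkt : IsThickMor k := repWith_of_isPullback sq hi
  obtain ⟨W, ⟨eW⟩⟩ := ThickQuotLib.isRepSh_of_thick (IsAlgSpace.yon_obj W₀) hE hkt ⟨W₀, ⟨Iso.refl _⟩⟩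
  obtain ⟨χ, hχ⟩ := (yon S).map_surjective (qπ q q' ≫ eW.inv)
  obtain ⟨k', hk'⟩ := (yon S).map_surjective (k ≫ eW.inv)
  haveI : Etale χ.left := (repWith_yon_map_iff (P := (@Etale : MorphismProperty Scheme.{u})) χ).1
    (hχ ▸ repWith_comp hπ.etale (repWith_of_isIso eW.inv))
  haveI : Surjective χ.left := (repWith_yon_map_iff (P := (@Surjective : MorphismProperty Scheme.{u})) χ).1
    (hχ ▸ repWith_comp hπ.surjective (repWith_of_isIso eW.inv))
  refine ⟨W, eW.hom ≫ a, k', Groth.Agent.S10212.result ⟨Y, hY⟩ χ _ ?_, ?_⟩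
  · rw [hχ, Category.assoc, eW.inv_hom_id_assoc, ha]
    exact he
  · rw [hk']
    exact sq.of_iso (Iso.refl _) (Iso.refl _) eW.symm (Iso.refl _) (by simp) (by simp) (by simp) (by simp)

/-- Base change along a thickening is an equivalence of small etale sites. -/
theorem bc_isEquivalence {X X' : Sp S} (hX' : IsAlgSpace X') {i : X ⟶ X'} (hi : IsThickMor i) :
    (EtOver.bc hi.1).IsEquivalence := by
  have hπ : ∀ E : EtOver X', IsThickMor ((yon S).map (EtOver.bcπ hi.1 E)) := fun E =>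
    repWith_of_isPullback (EtOver.isPullback_bcObj hi.1 E) hi
  haveI : (EtOver.bc hi.1).Faithful := ⟨fun {E E'} g g' h => by
    refine EtOver.hom_ext _ _ (eq_of_restrict hX' (hπ E) E'.property ?_ ?_)
    · rw [EtOver.w g, EtOver.w g']
    · have := congrArg (fun z => z.hom.left ≫ EtOver.bcπ hi.1 E') h
      simp only [EtOver.bc_map] at this
      exact ((EtOver.bcMap_snd hi.1 g).symm.trans this).trans (EtOver.bcMap_snd hi.1 g')⟩
  haveI : (EtOver.bc hi.1).Full := ⟨fun {E E'} ψ => by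
    obtain ⟨v, hv, hve⟩ := exists_extend hX' (hπ E) E'.property (ψ.hom.left ≫ EtOver.bcπ hi.1 E') E.obj.hom (by
      rw [Functor.map_comp, Category.assoc, ← (EtOver.isPullback_bcObj hi.1 E').w,
        ← (EtOver.isPullback_bcObj hi.1 E).w, ← Category.assoc]
      exact congrArg (· ≫ i) (EtOver.w ψ))
    refine ⟨EtOver.homMk v hve, EtOver.hom_ext _ _ (hi.1.hom_ext ?_ ?_)⟩
    · exact (EtOver.map_bcMap_fst hi.1 (EtOver.homMk v hve)).trans (EtOver.w ψ).symm
    · exact (EtOver.bcMap_snd hi.1 (EtOver.homMk v hve)).trans hv⟩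
  haveI : (EtOver.bc hi.1).EssSurj := ⟨fun E₀ => by
    obtain ⟨W, aW, k, haW, sq⟩ := exists_lift hX' hi E₀.obj.hom E₀.property
    let E : EtOver X' := EtOver.mk aW haW
    let eI := (EtOver.isPullback_bcObj hi.1 E).isoIsPullback _ _ sq
    let e := (yon S).preimageIso eI
    have he₁ : (yon S).map e.hom ≫ E₀.obj.hom = (EtOver.bcObj hi.1 E).obj.hom := by
      simp only [e, Functor.preimageIso_hom, Functor.map_preimage]
      exact IsPullback.isoIsPullback_hom_fst _ _ _ _
    have he₂ : (yon S).map e.inv ≫ (EtOver.bcObj hi.1 E).obj.hom = E₀.obj.hom := by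
      rw [← he₁, ← Functor.map_comp_assoc, Iso.inv_hom_id, CategoryTheory.Functor.map_id, Category.id_comp]
    exact ⟨E, ⟨⟨EtOver.homMk e.hom he₁, EtOver.homMk e.inv he₂, EtOver.hom_ext _ _ e.hom_inv_id,
      EtOver.hom_ext _ _ e.inv_hom_id⟩⟩⟩⟩
  exact { }

end EtThickLib
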