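import Groth.Agent.UHomeoLib.Push
import Groth.Agent.EtShLib.LiftClosed

/-!
# Etale neighbourhoods along integral universally injective morphisms of schemes
-/

set_option autoImplicit false
set_option linter.all false
set_option backward.isDefEq.respectTransparency false
set_option backward.isDefEq.respectTransparency.types false

universe u

open CategoryTheory CategoryTheory.Limits AlgebraicGeometry

namespace EtThickLib

theorem exists_refine {Y U W : Scheme.{u}} (q : Y ⟶ U) [IsIntegralHom q] [UniversallyInjective q]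
    (p : W ⟶ Y) [Etale p] (w : W) :
    ∃ (U' P : Scheme.{u}) (k : U' ⟶ U) (c : P ⟶ U') (d : P ⟶ W),
      Etale k ∧ IsPullback c (d ≫ p) k q ∧ ∃ z : P, d z = w := by
  obtain ⟨h1, h2, h3⟩ := UHomeo.toImage_properties q
  haveI := h1; haveI := h2; haveI := h3
  obtain ⟨WI, pI, Φ, hpI, sq⟩ := EtInvLib.exists_lift_of_local
    (fun x => UHomeo.exists_liftData q.toImage p x)
  haveI := hpI
  obtain ⟨W₀, hw, U', k, c, hk, hpb⟩ := Groth.Agent.EtShLib.exists_lift_closed q.imageι pI (Φ w)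
  refine ⟨U', (Φ ⁻¹ᵁ W₀ : W.Opens), k, (Φ ∣_ W₀) ≫ c, (Φ ⁻¹ᵁ W₀).ι, hk, ?_, ⟨⟨w, hw⟩, rfl⟩⟩
  have h4 : IsPullback (Φ ∣_ W₀) (Φ ⁻¹ᵁ W₀).ι W₀.ι Φ := (isPullback_morphismRestrict Φ W₀)
  have h5 := (h4.paste_vert sq).paste_horiz hpb
  rwa [q.toImage_imageι] at h5

end EtThickLib
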