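import Groth.Agent.AlgSpLib.EtaleLift
import Groth.Agent.AlgSpLib.MorPack
import Groth.Agent.AlgSpLib.Noeth

/-!
# Etale morphisms lift uniquely along universal homeomorphisms
-/

set_option autoImplicit false
set_option linter.all false
universe u
open CategoryTheory CategoryTheory.Limits AlgebraicGeometry AlgSp AlgSpLib Topology

namespace EtThickLib

variable {S : Scheme.{u}}

/-- An etale morphism has a unique lift along every universally closed, universally injective surjection. -/
theorem existsUnique_lift {T T' X Y : Sp S} (hT : IsAlgSpace T) (hT' : IsAlgSpace T')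
    (hX : IsAlgSpace X) (hY : IsAlgSpace Y) {t : T ⟶ T'} (hts : IsSurjectiveMor t)
    (htc : IsUnivClosedMor t) (hti : IsUnivInjectiveMor t) {f : X ⟶ Y}
    (hf : IsEtaleMor f) (a : T ⟶ X) (b : T' ⟶ Y) (e : a ≫ f = t ≫ b) :
    ∃! l : T' ⟶ X, t ≫ l = a ∧ l ≫ f = b := by
  have hdf := openImmersion_diagonal_of_isEtaleMor hX hY hf
  suffices ∃ l : T' ⟶ X, t ≫ l = a ∧ l ≫ f = b by
    obtain ⟨l, hl⟩ := this
    exact ⟨l, hl, fun l' hl' => lift_unique hts hdf (hl'.1.trans hl.1.symm) (hl'.2.trans hl.2.symm)⟩
  -- reduce to a section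
  let P := pullback f b
  let q : P ⟶ T' := pullback.snd f b
  have hP : IsAlgSpace P := isAlgSpace_pullback hX hT' hY f b
  have hq : IsEtaleMor q := isEtaleMor_of_isPullback hX hY hT' (IsPullback.of_hasPullback f b) hf
  let s : T ⟶ P := pullback.lift a t e
  have hsq : s ≫ q = t := pullback.lift_snd _ _ _
  -- the section over `T`
  let PT := pullback q t
  have sqT : IsPullback (pullback.fst q t) (pullback.snd q t) q t := IsPullback.of_hasPullback q t
  have hPT : IsAlgSpace PT := isAlgSpace_pullback hP hT hT' q t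
  have hqT : IsEtaleMor (pullback.snd q t) := isEtaleMor_of_isPullback hP hT' hT sqT hq
  let σ : T ⟶ PT := pullback.lift s (𝟙 T) (by rw [hsq, Category.id_comp])
  have : Mono σ := mono_of_mono_fac (pullback.lift_snd s (𝟙 T) _)
  have hσ : RepWith @IsOpenImmersion σ := repWith_openImmersion_of_mono_etale hT hPT σ
    (isEtaleMor_of_comp hPT (f := σ) (g := pullback.snd q t)
      (by rw [pullback.lift_snd]; exact isEtaleMor_id T) hqT)
  have ht1s : Function.Surjective (Points.map (pullback.fst q t)) := map_surjective_of_isPullback sqT.flip hts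
  have ht1c : IsClosedMap (Points.map (pullback.fst q t)) := htc hP q _ _ sqT.flip
  have ht1i : Function.Injective (Points.map (pullback.fst q t)) := hti hP q _ _ sqT.flip
  let A := Set.range (Points.map σ)
  have hA : IsOpen A := (isOpenMap_map_of_isEtaleMor hT (isEtaleMor_of_openImmersion hσ)).isOpen_range
  let B := Points.map (pullback.fst q t) '' A
  have hB : IsOpen B := by
    rw [← isClosed_compl_iff, ← Set.image_compl_eq ⟨ht1i, ht1s⟩]
    exact ht1c _ hA.isClosed_compl
  -- the open subspace of `P` on the section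
  let U := openSub P B
  let j : U ⟶ P := openSubι P B
  have hj : RepWith @IsOpenImmersion j := repWith_openSubι P hB
  have hU : IsAlgSpace U := isAlgSpace_openSub hP hB
  have hqU : IsEtaleMor (j ≫ q) := isEtaleMor_comp hq (isEtaleMor_of_openImmersion hj)
  obtain ⟨sU, hsU⟩ := (exists_factor_iff hj s).2 (by
    rw [range_openSubι]
    rintro _ ⟨x, rfl⟩
    exact ⟨Points.map σ x, ⟨x, rfl⟩, by rw [← Points.map_comp, pullback.lift_fst]⟩)
  -- the base change of `U` to `T` is `T`
  have sqU : IsPullback (pullback.fst (j ≫ q) t) (pullback.snd (j ≫ q) t) (j ≫ q) t :=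
    IsPullback.of_hasPullback _ _
  have hUT : Mono (pullback.snd (j ≫ q) t) := by
    let k : pullback (j ≫ q) t ⟶ PT := pullback.lift (pullback.fst _ _ ≫ j) (pullback.snd _ _)
      (by rw [Category.assoc]; exact sqU.w)
    have sqk : IsPullback (pullback.fst (j ≫ q) t) k j (pullback.fst q t) := by
      refine IsPullback.of_bot ?_ (pullback.lift_fst _ _ _).symm sqT
      rw [pullback.lift_snd]
      exact sqU
    have hk : RepWith @IsOpenImmersion k := repWith_of_isPullback sqk hj
    have hr : Set.range (Points.map k) = A := by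
      rw [range_map_of_isPullback sqk, range_openSubι]
      exact Set.preimage_image_eq _ ht1i
    obtain ⟨e', he'⟩ := exists_iso_of_range_eq hk hσ hr
    have : pullback.snd (j ≫ q) t = e'.hom := by
      rw [← pullback.lift_snd (pullback.fst (j ≫ q) t ≫ j) (pullback.snd (j ≫ q) t)
        (by rw [Category.assoc]; exact sqU.w)]
      change k ≫ pullback.snd q t = e'.hom
      rw [← he', Category.assoc, pullback.lift_snd, Category.comp_id]
    rw [this]
    infer_instance
  have hd := openImmersion_diagonal_of_isEtaleMor hU hT' hqU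
  have : Mono (j ≫ q) := by
    have : IsIso (pullback.diagonal (j ≫ q)) := isIso_of_openImmersion_surjective hd fun z => by
      obtain ⟨x, hx⟩ := hts (Points.map (pullback.fst (j ≫ q) (j ≫ q) ≫ j ≫ q) z)
      obtain ⟨w, hw, -⟩ := exists_point_isPullback
        (IsPullback.of_hasPullback (pullback.fst (j ≫ q) (j ≫ q) ≫ j ≫ q) t) z x hx.symm
      let c := pullback.fst (pullback.fst (j ≫ q) (j ≫ q) ≫ j ≫ q) t
      let r := pullback.snd (pullback.fst (j ≫ q) (j ≫ q) ≫ j ≫ q) t
      have e1 : (c ≫ pullback.fst (j ≫ q) (j ≫ q)) ≫ j ≫ q = r ≫ t := by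
        rw [Category.assoc]; exact pullback.condition
      have e2 : (c ≫ pullback.snd (j ≫ q) (j ≫ q)) ≫ j ≫ q = r ≫ t := by
        rw [Category.assoc, ← pullback.condition (f := j ≫ q) (g := j ≫ q)]; exact pullback.condition
      have e3 : c ≫ pullback.fst (j ≫ q) (j ≫ q) = c ≫ pullback.snd (j ≫ q) (j ≫ q) := by
        have : pullback.lift _ r e1 = pullback.lift _ r e2 :=
          (cancel_mono (pullback.snd (j ≫ q) t)).1 (by rw [pullback.lift_snd, pullback.lift_snd])
        have h := congrArg (· ≫ pullback.fst (j ≫ q) t) this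
        rwa [pullback.lift_fst, pullback.lift_fst] at h
      refine ⟨Points.map (c ≫ pullback.fst (j ≫ q) (j ≫ q)) w, ?_⟩
      rw [← Points.map_comp, ← hw]
      congr 1
      exact pullback.hom_ext
        (by rw [Category.assoc, pullback.diagonal_fst, Category.comp_id])
        (by rw [Category.assoc, pullback.diagonal_snd, Category.comp_id]; exact e3)
    exact (pullback.diagonal_isKernelPair (j ≫ q)).mono_of_eq_fst_snd (by
      rw [← cancel_epi (pullback.diagonal (j ≫ q)), pullback.diagonal_fst, pullback.diagonal_snd])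
  have hsU' : sU ≫ j ≫ q = t := by rw [← Category.assoc, hsU, hsq]
  have : IsIso (j ≫ q) := isIso_of_mono_etale_surjective hU hT' _ hqU fun y => by
    obtain ⟨x, rfl⟩ := hts y
    exact ⟨Points.map sU x, by rw [← Points.map_comp, hsU']⟩
  refine ⟨inv (j ≫ q) ≫ j ≫ pullback.fst f b, ?_, ?_⟩
  · rw [← hsU', Category.assoc, IsIso.hom_inv_id_assoc, ← Category.assoc, hsU, pullback.lift_fst]
  · rw [Category.assoc, Category.assoc, pullback.condition]
    change inv (j ≫ q) ≫ j ≫ q ≫ b = b
    rw [← Category.assoc j, IsIso.inv_hom_id_assoc]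

/-- Representable integral, universally injective and surjective. -/
structure IsUH {F G : Sp S} (i : F ⟶ G) : Prop where
  integral : RepWith @IsIntegralHom i
  radicial : RepWith @UniversallyInjective i
  surj : RepWith @Surjective i

namespace IsUH

theorem of_isPullback {F G F' G' : Sp S} {a : F' ⟶ F} {i' : F' ⟶ G'} {i : F ⟶ G} {g : G' ⟶ G} (hi : IsUH i)
    (sq : IsPullback a i' i g) : IsUH i' :=
  ⟨repWith_of_isPullback sq hi.integral, repWith_of_isPullback sq hi.radicial, repWith_of_isPullback sq hi.surj⟩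

theorem univClosed {F G : Sp S} {i : F ⟶ G} (hi : IsUH i) (hF : IsAlgSpace F) (hG : IsAlgSpace G) :
    IsUnivClosedMor i :=
  (isUnivClosedMor_iff_repWith hF hG hi.integral.rep).1
    (repWith_mono (fun _ _ g (_ : IsIntegralHom g) => (inferInstance : UniversallyClosed g)) hi.integral)

theorem univInjective {F G : Sp S} {i : F ⟶ G} (hi : IsUH i) (hF : IsAlgSpace F) (hG : IsAlgSpace G) :
    IsUnivInjectiveMor i :=
  (univInjective_iff_surjective_diagonal hF).2 ((fieldInjective_iff_surjective_diagonal hF hG).1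
    ((repWith_universallyInjective_iff hi.integral.rep).1 hi.radicial))

theorem of_mor {F G : Sp S} {i : F ⟶ G} (hF : IsAlgSpace F) (hG : IsAlgSpace G) (h1 : IsIntegralMor i)
    (h2 : IsUnivInjectiveMor i) (h3 : IsSurjectiveMor i) : IsUH i :=
  have h := isIntegralMor_iff.1 h1
  ⟨h, (repWith_universallyInjective_iff h.rep).2 ((fieldInjective_iff_surjective_diagonal hF hG).2
    ((univInjective_iff_surjective_diagonal hF).1 h2)), (repWith_surjective_iff h.rep).2 h3⟩

theorem existsUnique_lift {T T' X Y : Sp S} (hT : IsAlgSpace T) (hT' : IsAlgSpace T')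
    (hX : IsAlgSpace X) (hY : IsAlgSpace Y) {t : T ⟶ T'} (ht : IsUH t) {f : X ⟶ Y}
    (hf : IsEtaleMor f) (a : T ⟶ X) (b : T' ⟶ Y) (e : a ≫ f = t ≫ b) :
    ∃! l : T' ⟶ X, t ≫ l = a ∧ l ≫ f = b :=
  EtThickLib.existsUnique_lift hT hT' hX hY (map_surjective_of_repWith ht.surj) (ht.univClosed hT hT')
    (ht.univInjective hT hT') hf a b e

end IsUH

end EtThickLib
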