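import Groth.Prelude.Def_AlgSpOX2
import Groth.Prelude.Def_AlgSp4
import Groth.Agent.EtThickLib.RefineScheme
import Groth.Agent.EtThickLib.UHLift
import Groth.Agent.AlgSpRegLib.SiteEt
import Groth.Agent.AlgSpLib.RepSpBase
import Mathlib.CategoryTheory.Sites.DenseSubsite.InducedTopology
import Mathlib.CategoryTheory.Sites.DenseSubsite.SheafEquiv
import Mathlib.CategoryTheory.Adjunction.FullyFaithful

/-!
# Direct images along integral universally injective morphisms of algebraic spaces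
-/

set_option autoImplicit false
set_option linter.all false
set_option backward.isDefEq.respectTransparency false
set_option backward.isDefEq.respectTransparency.types false
set_option maxHeartbeats 800000

noncomputable section

universe u v' u'

open CategoryTheory CategoryTheory.Limits AlgebraicGeometry AlgSp AlgSpLib Opposite

namespace EtThickLib

variable {S : Scheme.{u}} {Y X : Sp S} {f : Y ⟶ X} (hf : Representable f)

/-- The projections from base changes are integral and universally injective. -/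
structure IsIR : Prop where
  integral : RepWith @IsIntegralHom f
  radicial : RepWith @UniversallyInjective f

variable {hf}

theorem IsIR.snd (h : IsIR (f := f)) {T W : Over S} {g : (yon S).obj T ⟶ X} {a : (yon S).obj W ⟶ Y} {p : W ⟶ T}
    (sq : IsPullback a ((yon S).map p) f g) : IsIntegralHom p.left ∧ UniversallyInjective p.left :=
  ⟨h.integral.property g a p sq, h.radicial.property g a p sq⟩

theorem IsIR.bcπ (h : IsIR (f := f)) (E : EtOver X) :
    IsIntegralHom (EtOver.bcπ hf E).left ∧ UniversallyInjective (EtOver.bcπ hf E).left :=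
  h.snd (EtOver.isPullback_bcObj hf E)

theorem isIR_of_mor (hY : IsAlgSpace Y) (hX : IsAlgSpace X) (hi : RepWith @IsIntegralHom f)
    (hu : IsUnivInjectiveMor f) : IsIR (f := f) :=
  ⟨hi, (repWith_universallyInjective_iff hi.rep).2 ((fieldInjective_iff_surjective_diagonal hY hX).2
    ((univInjective_iff_surjective_diagonal hY).1 hu))⟩

theorem isIR_of_closedImmersion (hi : RepWith @IsClosedImmersion f) : IsIR (f := f) :=
  ⟨repWith_mono (fun _ _ g (_ : IsClosedImmersion g) => (inferInstance : IsIntegralHom g)) hi,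
    repWith_mono (fun _ _ g (_ : IsClosedImmersion g) => (inferInstance : UniversallyInjective g)) hi⟩

variable (hf)

/-- Base change is cover dense. -/
theorem isCoverDense_bc (hX : IsAlgSpace X) (h : IsIR (f := f)) :
    (EtOver.bc hf).IsCoverDense (etTop Y) := by
  refine ⟨fun W => (AlgSpRegLib.mem_etTop_iff _).2 fun w => ?_⟩
  obtain ⟨U₁, b, hb, hbs⟩ := hX.atlas
  let Y₁ := hf.pullback b
  let q : Y₁ ⟶ U₁ := hf.snd b
  let b' : (yon S).obj Y₁ ⟶ Y := hf.fst b
  have sqY : IsPullback b' ((yon S).map q) f b := hf.isPullback b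
  obtain ⟨hq₁, hq₂⟩ := h.snd sqY
  haveI := hq₁; haveI := hq₂
  have hb' : RepWith @Etale b' := repWith_of_isPullback sqY.flip hb
  have hbs' : RepWith @Surjective b' := repWith_of_isPullback sqY.flip hbs
  let W₁ := W.property.1.pullback b'
  let pw : W₁ ⟶ Y₁ := W.property.1.snd b'
  obtain ⟨mw, hmw⟩ := (yon S).map_surjective (W.property.1.fst b')
  have sqW : IsPullback ((yon S).map mw) ((yon S).map pw) W.obj.hom b' := hmw ▸ W.property.1.isPullback b'
  haveI : Etale pw.left := (repWith_yon_map_iff (P := (@Etale : MorphismProperty Scheme.{u})) pw).1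
    (repWith_of_isPullback sqW W.property)
  haveI : Surjective mw.left := (repWith_yon_map_iff (P := (@Surjective : MorphismProperty Scheme.{u})) mw).1
    (repWith_of_isPullback sqW.flip hbs')
  obtain ⟨w₁, hw₁⟩ := mw.left.surjective w
  obtain ⟨U', P, k, c, d, hk, sqP, z, hz⟩ := exists_refine q.left pw.left w₁
  let Uo : Over S := Over.mk (k ≫ U₁.hom)
  let ko : Uo ⟶ U₁ := Over.homMk k
  let Po : Over S := Over.mk (c ≫ Uo.hom)
  let co : Po ⟶ Uo := Over.homMk c
  let do' : Po ⟶ W₁ := Over.homMk d (by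
    change d ≫ W₁.hom = c ≫ k ≫ U₁.hom
    rw [reassoc_of% sqP.w, Over.w q, Over.w pw])
  have sqPo : IsPullback co (do' ≫ pw) ko q := IsPullback.of_map (Over.forget S) (Over.OverMorphism.ext sqP.w) sqP
  let E : EtOver X := EtOver.mk ((yon S).map ko ≫ b)
    (repWith_comp ((repWith_yon_map_iff (P := (@Etale : MorphismProperty Scheme.{u})) ko).2 hk) hb)
  have sqE : IsPullback ((yon S).map (do' ≫ pw) ≫ b') ((yon S).map co) f E.obj.hom :=
    (sqPo.map (yon S)).flip.paste_horiz sqY
  let e := (yon S).preimageIso ((EtOver.isPullback_bcObj hf E).isoIsPullback _ _ sqE)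
  have he : (yon S).map e.hom ≫ (yon S).map (do' ≫ pw) ≫ b' = (EtOver.bcObj hf E).obj.hom := by
    simp only [e, Functor.preimageIso_hom, Functor.map_preimage]
    exact IsPullback.isoIsPullback_hom_fst _ _ _ _
  let g : (EtOver.bc hf).obj E ⟶ W := EtOver.homMk (E := EtOver.bcObj hf E) (e.hom ≫ do' ≫ mw) (by
    rw [← he, Functor.map_comp, Functor.map_comp, Functor.map_comp, Category.assoc, Category.assoc, sqW.w]
    simp only [Category.assoc])
  refine ⟨_, g, ⟨⟨E, 𝟙 _, g, Category.id_comp g⟩⟩, e.inv.left z, ?_⟩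
  change (e.inv ≫ e.hom ≫ do' ≫ mw).left z = w
  rw [e.inv_hom_id_assoc]
  change mw.left (d z) = w
  rw [hz, hw₁]

/-- A split base change. -/
theorem exists_section {E V : EtOver X} (v : V ⟶ E) {T : EtOver Y} (a : T ⟶ (EtOver.bc hf).obj E)
    (t : T.obj.left ⟶ V.obj.left) (ht : t ≫ v.hom.left = a.hom.left ≫ EtOver.bcπ hf E) :
    ∃ s : T ⟶ (EtOver.bc hf).obj V, s ≫ (EtOver.bc hf).map v = a := by
  have hw : T.obj.hom ≫ f = (yon S).map t ≫ V.obj.hom := by
    rw [← EtOver.w v, ← Functor.map_comp_assoc, ht, Functor.map_comp, Category.assoc,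
      ← (EtOver.isPullback_bcObj hf E).w, ← Category.assoc]
    exact congrArg (· ≫ f) (EtOver.w a).symm
  refine ⟨EtOver.homMk (E' := EtOver.bcObj hf V) (hf.lift T.obj.hom t hw) (hf.lift_fst _ _ _),
    EtOver.hom_ext _ _ (hf.hom_ext ?_ ?_)⟩
  · change (yon S).map (hf.lift T.obj.hom t hw ≫ (EtOver.bcMap hf _).hom.left) ≫ _ = _
    rw [Functor.map_comp, Category.assoc, EtOver.map_bcMap_fst]
    exact (hf.lift_fst _ _ _).trans (EtOver.w a).symm
  · change (hf.lift T.obj.hom t hw ≫ (EtOver.bcMap hf _).hom.left) ≫ _ = _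
    rw [Category.assoc, EtOver.bcMap_snd, hf.lift_snd_assoc]
    exact ht

/-- Base change is locally faithful. -/
theorem isLocallyFaithful_bc : (EtOver.bc hf).IsLocallyFaithful (etTop Y) := by
  refine ⟨fun {E E'} g₁ g₂ h => ?_⟩
  let EP := EtOver.prodObj E E'
  let Γ : ∀ g : E ⟶ E', E ⟶ EP := fun g => (BinaryFan.IsLimit.lift' (EtOver.prodIsLimit E E') (𝟙 E) g).1
  have hΓ₁ : ∀ g, Γ g ≫ EtOver.prodFst E E' = 𝟙 E := fun g =>
    (BinaryFan.IsLimit.lift' (EtOver.prodIsLimit E E') (𝟙 E) g).2.1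
  have hΓ₂ : ∀ g, Γ g ≫ EtOver.prodSnd E E' = g := fun g =>
    (BinaryFan.IsLimit.lift' (EtOver.prodIsLimit E E') (𝟙 E) g).2.2
  let K := EtOver.pullbackObj (Γ g₁) (Γ g₂)
  have hK : EtOver.pullbackFst (Γ g₁) (Γ g₂) ≫ g₁ = EtOver.pullbackFst (Γ g₁) (Γ g₂) ≫ g₂ := by
    have c := EtOver.pullback_condition (Γ g₁) (Γ g₂)
    have c₁ : EtOver.pullbackFst (Γ g₁) (Γ g₂) = EtOver.pullbackSnd (Γ g₁) (Γ g₂) := by
      simpa [Category.assoc, hΓ₁] using congrArg (· ≫ EtOver.prodFst E E') c
    have c₂ := congrArg (· ≫ EtOver.prodSnd E E') c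
    simp only [Category.assoc, hΓ₂] at c₂
    rw [c₂, ← c₁]
  have hπ : EtOver.bcπ hf E ≫ g₁.hom.left = EtOver.bcπ hf E ≫ g₂.hom.left :=
    ((EtOver.bcMap_snd hf g₁).symm.trans (congrArg (fun z => z.hom.left ≫ EtOver.bcπ hf E') h)).trans
      (EtOver.bcMap_snd hf g₂)
  have hπΓ : EtOver.bcπ hf E ≫ (Γ g₁).hom.left = EtOver.bcπ hf E ≫ (Γ g₂).hom.left := by
    refine Functor.relativelyRepresentable.hom_ext' E'.property.1 ((yon S).map_injective ?_) ?_
    · have e1 : ∀ g, (EtOver.bcπ hf E ≫ (Γ g).hom.left) ≫ (EtOver.prodSnd E E').hom.left =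
          EtOver.bcπ hf E ≫ g.hom.left := fun g => by
        rw [Category.assoc]; exact congrArg (fun z => EtOver.bcπ hf E ≫ z.hom.left) (hΓ₂ g)
      exact congrArg _ (((e1 g₁).trans hπ).trans (e1 g₂).symm)
    · have e1 : ∀ g, (EtOver.bcπ hf E ≫ (Γ g).hom.left) ≫ (EtOver.prodFst E E').hom.left =
          EtOver.bcπ hf E := fun g => by
        rw [Category.assoc]
        exact (congrArg (fun z => EtOver.bcπ hf E ≫ z.hom.left) (hΓ₁ g)).trans (Category.comp_id _)
      exact (e1 g₁).trans (e1 g₂).symm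
  obtain ⟨s, hs⟩ := exists_section hf (EtOver.pullbackFst (Γ g₁) (Γ g₂)) (𝟙 ((EtOver.bc hf).obj E))
    (pullback.lift _ _ hπΓ)
    (by rw [show (𝟙 ((EtOver.bc hf).obj E) : _ ⟶ _).hom.left = 𝟙 _ from rfl, Category.id_comp]
        exact pullback.lift_fst _ _ _)
  refine GrothendieckTopology.superset_covering _ ?_ ((etTop Y).top_mem _)
  intro T a _
  exact ⟨K, EtOver.pullbackFst (Γ g₁) (Γ g₂), a ≫ s,
    (by change _ ≫ g₁ = _ ≫ g₂; exact hK), (by rw [Category.assoc]; exact ((congrArg (a ≫ ·) hs).trans (Category.comp_id a)).symm)⟩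

/-- Base change is locally full. -/
theorem isLocallyFull_bc (h : IsIR (f := f)) : (EtOver.bc hf).IsLocallyFull (etTop Y) := by
  refine ⟨fun {E E'} φ => ?_⟩
  let EP := EtOver.prodObj E E'
  obtain ⟨t, ht₁, ht₂⟩ : ∃ t : (EtOver.bcObj hf E).obj.left ⟶ EP.obj.left,
      t ≫ (EtOver.prodFst E E').hom.left = EtOver.bcπ hf E ∧
      t ≫ (EtOver.prodSnd E E').hom.left = φ.hom.left ≫ EtOver.bcπ hf E' := by
    have w : (yon S).map (φ.hom.left ≫ EtOver.bcπ hf E') ≫ E'.obj.hom = (yon S).map (EtOver.bcπ hf E) ≫ E.obj.hom := by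
      rw [Functor.map_comp, Category.assoc, ← (EtOver.isPullback_bcObj hf E').w,
        ← (EtOver.isPullback_bcObj hf E).w, ← Category.assoc]
      exact congrArg (· ≫ f) (EtOver.w φ)
    exact ⟨E'.property.1.lift' _ _ w, Functor.relativelyRepresentable.lift'_snd _ _ _ _,
      Functor.relativelyRepresentable.lift'_fst _ _ _ _⟩
  have hw : (EtOver.bcObj hf E).obj.hom ≫ f = (yon S).map t ≫ EP.obj.hom := by
    rw [(EtOver.isPullback_bcObj hf E).w, ← ht₁, Functor.map_comp, Category.assoc]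
    rfl
  -- the graph
  let Γ : EtOver.bcObj hf E ⟶ EtOver.bcObj hf EP := EtOver.homMk (hf.lift _ t hw) (hf.lift_fst _ _ _)
  let π : (EtOver.bcObj hf EP).obj.left ⟶ EP.obj.left := EtOver.bcπ hf EP
  have hΓπ : Γ.hom.left ≫ π = t := hf.lift_snd _ _ _
  have hΓfst : Γ ≫ (EtOver.bc hf).map (EtOver.prodFst E E') = 𝟙 _ := EtOver.hom_ext _ _ (hf.hom_ext
    (by
      change (yon S).map (Γ.hom.left ≫ _) ≫ _ = _
      rw [Functor.map_comp, Category.assoc, EtOver.bc_map, EtOver.map_bcMap_fst]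
      refine (hf.lift_fst _ _ _).trans ?_
      exact ((Category.id_comp _).symm.trans (congrArg (· ≫ hf.fst E.obj.hom) ((yon S).map_id _).symm) :))
    (by
      change (Γ.hom.left ≫ _) ≫ _ = _
      rw [Category.assoc, EtOver.bc_map, EtOver.bcMap_snd, reassoc_of% hΓπ, ht₁]
      exact (Category.id_comp _).symm))
  haveI : IsSplitMono Γ.hom.left.left := ⟨⟨((EtOver.bc hf).map (EtOver.prodFst E E')).hom.left.left,
    congrArg (fun z => z.hom.left.left) hΓfst⟩⟩
  haveI : Etale Γ.hom.left.left := EtOver.etale_left Γ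
  haveI : IsOpenImmersion Γ.hom.left.left := IsOpenImmersion.of_flat_of_mono _
  obtain ⟨hπ₁, hπ₂⟩ := h.bcπ (hf := hf) EP
  haveI := hπ₁; haveI := hπ₂
  let O : EP.obj.left.left.Opens :=
    ⟨(π.left '' (Set.range Γ.hom.left.left)ᶜ)ᶜ, (π.left.isClosedMap _ Γ.hom.left.left.isOpenEmbedding.isOpen_range.isClosed_compl).isOpen_compl⟩
  have hO : ∀ p, π.left p ∈ O ↔ p ∈ Set.range Γ.hom.left.left := fun p => by
    refine ⟨fun hp => by_contra fun hn => hp ⟨p, hn, rfl⟩, fun hp ⟨p', hp', e⟩ => hp' ?_⟩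
    rwa [π.left.injective e]
  let V : Over S := Over.mk (O.ι ≫ EP.obj.left.hom)
  let o : V ⟶ EP.obj.left := Over.homMk O.ι
  let v : V ⟶ E.obj.left := o ≫ (EtOver.prodFst E E').hom.left
  have hv : RepWith @Etale ((yon S).map v ≫ E.obj.hom) := by
    rw [Functor.map_comp, Category.assoc, EtOver.w]
    exact repWith_comp ((repWith_yon_map_iff (P := (@Etale : MorphismProperty Scheme.{u})) o).2
      (inferInstanceAs (Etale O.ι))) EP.property
  haveI : IsOpenImmersion o.left := inferInstanceAs (IsOpenImmersion O.ι)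
  have htO : Set.range t.left ⊆ Set.range o.left := by
    rintro _ ⟨y, rfl⟩
    show _ ∈ Set.range O.ι
    rw [Scheme.Opens.range_ι, ← hΓπ]
    exact (hO _).2 ⟨y, rfl⟩
  let t' : (EtOver.bcObj hf E).obj.left ⟶ V := Over.homMk (IsOpenImmersion.lift o.left t.left htO) (by
    change _ ≫ o.left ≫ _ = _
    rw [IsOpenImmersion.lift_fac_assoc, Over.w t])
  have ht' : t' ≫ o = t := Over.OverMorphism.ext (IsOpenImmersion.lift_fac _ _ _)
  let EV : EtOver X := EtOver.mk _ hv
  let aV : EV ⟶ E := EtOver.homMk v rfl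
  obtain ⟨s, hs⟩ := exists_section hf aV (𝟙 ((EtOver.bc hf).obj E)) t' (by
    rw [show (𝟙 ((EtOver.bc hf).obj E) : _ ⟶ _).hom.left = 𝟙 _ from rfl, Category.id_comp]
    change t' ≫ o ≫ _ = _
    rw [reassoc_of% ht', ht₁])
  have hw' : (yon S).map o ≫ EP.obj.hom = EV.obj.hom := by
    change _ = (yon S).map v ≫ _
    rw [Functor.map_comp, Category.assoc, EtOver.w]
  let oE : EV ⟶ EP := EtOver.homMk o hw'
  let j := (EtOver.bc hf).map oE
  have hjπ : j.hom.left ≫ π = EtOver.bcπ hf EV ≫ o := EtOver.bcMap_snd hf oE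
  have hjr : Set.range j.hom.left.left ⊆ Set.range Γ.hom.left.left := by
    rintro _ ⟨y, rfl⟩
    refine (hO _).1 ?_
    change (j.hom.left ≫ π).left y ∈ O
    rw [hjπ]
    change O.ι ((EtOver.bcπ hf EV).left y) ∈ (O : Set _)
    rw [← Scheme.Opens.range_ι]
    exact ⟨_, rfl⟩
  let j₀ := IsOpenImmersion.lift Γ.hom.left.left j.hom.left.left hjr
  have hj₀ : j₀ ≫ Γ.hom.left.left = j.hom.left.left := IsOpenImmersion.lift_fac _ _ _
  let jo : (EtOver.bcObj hf EV).obj.left ⟶ (EtOver.bcObj hf E).obj.left := Over.homMk j₀ (by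
    exact ((congrArg (j₀ ≫ ·) (Over.w Γ.hom.left)).symm.trans
      ((Category.assoc _ _ _).symm.trans (congrArg (· ≫ _) hj₀))).trans (Over.w j.hom.left))
  have hjo : jo ≫ Γ.hom.left = j.hom.left := Over.OverMorphism.ext hj₀
  let l : EV ⟶ E' := oE ≫ EtOver.prodSnd E E'
  have hja : jo = ((EtOver.bc hf).map aV).hom.left := by
    have e0 : aV = oE ≫ EtOver.prodFst E E' := EtOver.hom_ext _ _ rfl
    rw [e0, Functor.map_comp]
    change jo = j.hom.left ≫ _
    rw [← hjo, Category.assoc]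
    exact ((congrArg (jo ≫ ·) (congrArg (fun z => z.hom.left) hΓfst)).trans (Category.comp_id _)).symm
  have hl : (EtOver.bc hf).map l = (EtOver.bc hf).map aV ≫ φ := EtOver.hom_ext _ _ (hf.hom_ext
    ((EtOver.map_bcMap_fst hf l).trans (EtOver.w ((EtOver.bc hf).map aV ≫ φ)).symm)
    (by
      refine (EtOver.bcMap_snd hf l).trans ?_
      change _ = (((EtOver.bc hf).map aV).hom.left ≫ φ.hom.left) ≫ _
      rw [Category.assoc, ← ht₂, ← hja, ← hΓπ]
      simp only [Category.assoc]
      rw [reassoc_of% hjo, reassoc_of% hjπ]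
      rfl))
  refine GrothendieckTopology.superset_covering _ ?_ ((etTop Y).top_mem _)
  intro T a _
  exact ⟨EV, aV, a ≫ s, ⟨l, hl⟩,
    by rw [Category.assoc]; exact ((congrArg (a ≫ ·) hs).trans (Category.comp_id a)).symm⟩

/-- Direct image is fully faithful and the counit is invertible. -/
theorem pushEt_full_faithful (hX : IsAlgSpace X) (h : IsIR (f := f)) (A : Type u') [Category.{v'} A] :
    (pushEt hf A).Full ∧ (pushEt hf A).Faithful := by
  haveI := isCoverDense_bc hf hX h
  haveI := isLocallyFull_bc hf h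
  unfold pushEt
  exact ⟨inferInstance, inferInstance⟩

theorem isIso_counit (hX : IsAlgSpace X) (h : IsIR (f := f)) :
    IsIso (pullPushAdjEt hf (Type (u + 1))).counit := by
  obtain ⟨h1, h2⟩ := pushEt_full_faithful hf hX h (Type (u + 1))
  infer_instance

section EssImage

variable {A : Type u'} [Category.{v'} A]

theorem isEmpty_bcObj (E : EtOver X)
    (hE : Disjoint (Set.range (Points.map E.obj.hom)) (Set.range (Points.map f))) :
    IsEmpty ↥(EtOver.bcObj hf E).obj.left.left := ⟨fun p => by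
  refine Set.disjoint_left.1 hE ⟨Points.map ((yon S).map (EtOver.bcπ hf E)) (Points.ofScheme _ p), rfl⟩
    ⟨Points.map (EtOver.bcObj hf E).obj.hom (Points.ofScheme _ p), ?_⟩
  rw [← Points.map_comp, ← Points.map_comp, (EtOver.isPullback_bcObj hf E).w]⟩

theorem isEmpty_sieve_mem {W : EtOver Y} [IsEmpty ↥W.obj.left.left] : (⊥ : Sieve W) ∈ etTop Y W :=
  (AlgSpRegLib.mem_etTop_iff _).2 fun e => isEmptyElim e

theorem nonempty_unique_of_essImage {G : EtSh X (Type (u + 1))} (hG : (pushEt hf (Type (u + 1))).essImage G)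
    (E : EtOver X) (hE : Disjoint (Set.range (Points.map E.obj.hom)) (Set.range (Points.map f))) :
    Nonempty (Unique (G.obj.obj (op E))) := by
  obtain ⟨F, ⟨e⟩⟩ := hG
  haveI := isEmpty_bcObj hf E hE
  obtain ⟨u₀⟩ : Nonempty (Unique (F.obj.obj (op (EtOver.bcObj hf E)))) :=
    ⟨(Types.isTerminalEquivUnique _) (Sheaf.isTerminalOfBotCover F _ isEmpty_sieve_mem)⟩
  exact ⟨@Equiv.unique _ _ u₀ (((sheafToPresheaf _ _).mapIso e).app (op E)).toEquiv.symm⟩

/-- A sheaf with trivial values away from the image is a sheaf for the induced topology. -/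
theorem isSheaf_restricted (hX : IsAlgSpace X) (h : IsIR (f := f)) (G : EtSh X (Type (u + 1)))
    (hG : ∀ E : EtOver X, Disjoint (Set.range (Points.map E.obj.hom)) (Set.range (Points.map f)) →
      Nonempty (Unique (G.obj.obj (op E))))
    [(EtOver.bc hf).IsCoverDense (etTop Y)] [(EtOver.bc hf).IsLocallyFull (etTop Y)]
    [(EtOver.bc hf).IsLocallyFaithful (etTop Y)] :
    Presheaf.IsSheaf ((EtOver.bc hf).restrictedTopology (etTop Y)) G.obj := by
  rw [isSheaf_iff_isSheaf_of_type]
  intro E T hT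
  rw [Functor.mem_restrictedTopology_iff, AlgSpRegLib.mem_etTop_iff] at hT
  obtain ⟨hπ₁, hπ₂⟩ := h.bcπ (hf := hf) E
  haveI := hπ₁
  let π := (EtOver.bcπ hf E).left
  let O : E.obj.left.left.Opens := ⟨(Set.range π)ᶜ, π.isClosedMap.isClosed_range.isOpen_compl⟩
  let V : Over S := Over.mk (O.ι ≫ E.obj.left.hom)
  let o : V ⟶ E.obj.left := Over.homMk O.ι
  let D : EtOver X := EtOver.mk ((yon S).map o ≫ E.obj.hom)
    (repWith_comp ((repWith_yon_map_iff (P := (@Etale : MorphismProperty Scheme.{u})) o).2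
      (inferInstanceAs (Etale O.ι))) E.property)
  let oD : D ⟶ E := EtOver.homMk o rfl
  have hD : Disjoint (Set.range (Points.map D.obj.hom)) (Set.range (Points.map f)) := by
    rw [Set.disjoint_left]
    rintro _ ⟨x, rfl⟩ ⟨y, hy⟩
    obtain ⟨d, rfl⟩ := (Points.schemeHomeo V).surjective x
    obtain ⟨w, -, hw⟩ := exists_point_isPullback (EtOver.isPullback_bcObj hf E) y
      (Points.map ((yon S).map o) (Points.schemeHomeo V d))
      (hy.trans (Points.map_comp ((yon S).map o) E.obj.hom _))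
    obtain ⟨p, rfl⟩ := (Points.schemeHomeo _).surjective w
    rw [Points.map_yon_map_apply, Points.map_yon_map_apply] at hw
    have hd : o.left d ∈ (O : Set E.obj.left.left) := by
      change O.ι d ∈ (O : Set E.obj.left.left)
      rw [← Scheme.Opens.range_ι]
      exact ⟨d, rfl⟩
    exact hd ⟨p, (Points.schemeHomeo _).injective hw⟩
  let T' : Sieve E :=
    { arrows := fun Z g => T g ∨ ∃ k : Z ⟶ D, k ≫ oD = g
      downward_closed := fun {Z Z'} g hg k => hg.imp (fun h => T.downward_closed h k)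
        (fun ⟨k', hk'⟩ => ⟨k ≫ k', by rw [Category.assoc, hk']⟩) }
  have hoff : ∀ {Z : EtOver X} (k : Z ⟶ D), Subsingleton (G.obj.obj (op Z)) ∧ Nonempty (G.obj.obj (op Z)) := by
    intro Z k
    obtain ⟨u₀⟩ := hG Z (hD.mono_left (by
      rintro _ ⟨z, rfl⟩
      exact ⟨Points.map ((yon S).map k.hom.left) z, by rw [← Points.map_comp, EtOver.w k]⟩))
    exact ⟨inferInstance, ⟨u₀.default⟩⟩
  have hT' : T' ∈ etTop X E := (AlgSpRegLib.mem_etTop_iff _).2 fun e => by
    by_cases he : e ∈ Set.range π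
    · obtain ⟨p, rfl⟩ := he
      obtain ⟨Z, g, ⟨Z', g', k, hg', rfl⟩, z, rfl⟩ := hT p
      refine ⟨Z', g', Or.inl hg', (EtOver.bcπ hf Z').left (k.hom.left.left z), ?_⟩
      exact (congrArg (fun t => t.left (k.hom.left.left z)) (EtOver.bcMap_snd hf g')).symm
    · have : e ∈ Set.range O.ι := by rw [Scheme.Opens.range_ι]; exact he
      exact ⟨D, oD, Or.inr ⟨𝟙 D, Category.id_comp _⟩, this⟩
  have hsh := (isSheaf_iff_isSheaf_of_type _ _).1 G.property T' hT'
  intro x hx
  have hx' := (Presieve.compatible_iff_sieveCompatible x).1 hx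
  classical
  let y : Presieve.FamilyOfElements G.obj T'.arrows := fun Z g hg =>
    if hg' : T g then x g hg' else (hoff (hg.resolve_left hg').choose).2.some
  have hyc : y.Compatible := by
    rw [Presieve.compatible_iff_sieveCompatible]
    intro Z Z' g k hg
    by_cases hg' : T g
    · simp only [y, dif_pos hg', dif_pos (T.downward_closed hg' k)]
      exact hx' g k hg'
    · obtain ⟨k', -⟩ := hg.resolve_left hg'
      haveI := (hoff (k ≫ k')).1
      exact Subsingleton.elim _ _
  obtain ⟨t, ht, htu⟩ := hsh y hyc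
  refine ⟨t, fun Z g hg => (ht g (Or.inl hg)).trans (dif_pos hg), fun t' ht' => htu t' fun Z g hg => ?_⟩
  by_cases hg' : T g
  · exact (ht' g hg').trans (dif_pos hg').symm
  · obtain ⟨k', -⟩ := hg.resolve_left hg'
    haveI := (hoff k').1
    exact Subsingleton.elim _ _

theorem essImage_of_isSheaf [(EtOver.bc hf).IsCoverDense (etTop Y)] [(EtOver.bc hf).IsLocallyFull (etTop Y)]
    [(EtOver.bc hf).IsLocallyFaithful (etTop Y)]
    [∀ X', HasLimitsOfShape (StructuredArrow X' (EtOver.bc hf).op) A] (G : EtSh X A)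
    (hG : Presheaf.IsSheaf ((EtOver.bc hf).restrictedTopology (etTop Y)) G.obj) :
    (pushEt hf A).essImage G := by
  let J' := (EtOver.bc hf).restrictedTopology (etTop Y)
  let P := (EtOver.bc hf).sheafPushforwardContinuous A J' (etTop Y)
  haveI : P.IsEquivalence := inferInstance
  let G' : Sheaf J' A := ⟨G.obj, hG⟩
  exact ⟨P.objPreimage G', ⟨(fullyFaithfulSheafToPresheaf (etTop X) A).preimageIso
    ((sheafToPresheaf J' A).mapIso (P.objObjPreimageIso G'))⟩⟩

end EssImage

theorem essImage_iff_set (hX : IsAlgSpace X) (h : IsIR (f := f)) (G : EtSh X (Type (u + 1))) :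
    (pushEt hf (Type (u + 1))).essImage G ↔
      ∀ E : EtOver X, Disjoint (Set.range (Points.map E.obj.hom)) (Set.range (Points.map f)) →
        Nonempty (Unique (G.obj.obj (op E))) := by
  haveI := isCoverDense_bc hf hX h
  haveI := isLocallyFull_bc hf h
  haveI := isLocallyFaithful_bc hf
  exact ⟨fun hG E hE => nonempty_unique_of_essImage hf hG E hE,
    fun hG => essImage_of_isSheaf hf G (isSheaf_restricted hf hX h G hG)⟩

theorem essImage_iff_ab (hX : IsAlgSpace X) (h : IsIR (f := f)) (G : AbEt X) :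
    (pushEt hf AddCommGrpCat.{u + 1}).essImage G ↔
      ∀ E : EtOver X, Disjoint (Set.range (Points.map E.obj.hom)) (Set.range (Points.map f)) →
        Subsingleton ↥(G.obj.obj (op E)) := by
  haveI := isCoverDense_bc hf hX h
  haveI := isLocallyFull_bc hf h
  haveI := isLocallyFaithful_bc hf
  let G' : EtSh X (Type (u + 1)) := (sheafCompose (etTop X) (forget AddCommGrpCat.{u + 1})).obj G
  refine ⟨fun ⟨F, ⟨e⟩⟩ E hE => ?_, fun hG => essImage_of_isSheaf hf G ?_⟩
  · obtain ⟨u₀⟩ := nonempty_unique_of_essImage hf (G := G')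
      ⟨(sheafCompose (etTop Y) (forget AddCommGrpCat.{u + 1})).obj F,
        ⟨(fullyFaithfulSheafToPresheaf (etTop X) _).preimageIso
          (Functor.isoWhiskerRight ((sheafToPresheaf _ _).mapIso e) (forget AddCommGrpCat.{u + 1}))⟩⟩ E hE
    exact @Unique.instSubsingleton _ u₀
  · rw [Presheaf.isSheaf_iff_isSheaf_forget _ _ (forget AddCommGrpCat.{u + 1})]
    exact isSheaf_restricted hf hX h G' fun E hE =>
      ⟨@uniqueOfSubsingleton (↥(G.obj.obj (op E))) (hG E hE) 0⟩

end EtThickLib
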