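import Groth.Prelude.Def_AlgSpOX2
import Groth.Agent.AlgSpRegLib.SiteEt
import Groth.Agent.AlgSpLib.MorPack
import Groth.Agent.EtSplitLib.Conditions
import Mathlib.CategoryTheory.Sites.EpiMono
import Mathlib.CategoryTheory.Abelian.RightDerived
import Mathlib.Algebra.Homology.ShortComplex.ExactFunctor

/-!
# Direct images along integral morphisms of algebraic spaces are exact
-/

set_option autoImplicit false
set_option linter.all false
set_option backward.isDefEq.respectTransparency false
set_option backward.isDefEq.respectTransparency.types false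
set_option maxHeartbeats 800000

noncomputable section

universe u

open CategoryTheory CategoryTheory.Limits AlgebraicGeometry AlgSp AlgSpLib Opposite TopologicalSpace

namespace EtThickLib

variable {S : Scheme.{u}} {X Y : Sp S}

/-- An open subscheme of an object of the site. -/
def openEt (E : EtOver X) (W : E.obj.left.left.Opens) : EtOver X :=
  EtOver.mk (U := Over.mk (W.ι ≫ E.obj.left.hom))
    ((yon S).map (Over.homMk W.ι : Over.mk (W.ι ≫ E.obj.left.hom) ⟶ E.obj.left) ≫ E.obj.hom)
    (repWith_comp ((repWith_yon_map_iff (P := (@Etale : MorphismProperty Scheme.{u}))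
      (Over.homMk W.ι : Over.mk (W.ι ≫ E.obj.left.hom) ⟶ E.obj.left)).2
      (show Etale W.ι from inferInstance)) E.property)

/-- Its inclusion. -/
def openEtHom (E : EtOver X) (W : E.obj.left.left.Opens) : openEt E W ⟶ E := EtOver.homMk (Over.homMk W.ι) rfl

theorem openEtHom_left (E : EtOver X) (W : E.obj.left.left.Opens) : (openEtHom E W).hom.left.left = W.ι := rfl

variable {P P' : (EtOver X)ᵒᵖ ⥤ Type (u + 1)}

theorem eq_of_cover_et (hP : Presieve.IsSheaf (etTop X) P) (E : EtOver X) {ι : Type*} (Z : ι → EtOver X)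
    (g : ∀ i, Z i ⟶ E) (h : ∀ z : E.obj.left.left, ∃ i, z ∈ Set.range (g i).hom.left.left) (a b : P.obj (op E))
    (hab : ∀ i, P.map (g i).op a = P.map (g i).op b) : a = b :=
  (hP _ (ofArrows_mem_etTop Z g h)).isSeparatedFor.ext (by
    rintro T _ ⟨_, q, _, ⟨i⟩, rfl⟩
    rw [op_comp, Functor.map_comp_apply, Functor.map_comp_apply, hab i])

theorem exists_amalg_et (hP : Presieve.IsSheaf (etTop X) P) (E : EtOver X) {μ : Type*}
    (W : μ → E.obj.left.left.Opens) (hd : ∀ a b, a ≠ b → Disjoint (W a) (W b)) (hc : (⨆ a, W a) = ⊤)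
    (t : ∀ a, P.obj (op (openEt E (W a)))) : ∃ s, ∀ a, P.map (openEtHom E (W a)).op s = t a := by
  have hmem := ofArrows_mem_etTop (fun a => openEt E (W a)) (fun a => openEtHom E (W a)) fun z => by
    obtain ⟨a, ha⟩ := Opens.mem_iSup.1 (show z ∈ ⨆ a, W a by rw [hc]; trivial)
    exact ⟨a, ⟨z, ha⟩, rfl⟩
  have hsh : (Presieve.ofArrows _ fun a => openEtHom E (W a)).IsSheafFor P := by
    rw [Presieve.isSheafFor_iff_generate]
    exact hP _ hmem
  obtain ⟨s, hs, -⟩ := (Presieve.isSheafFor_arrows_iff _ _).1 hsh t fun a b Z ga gb hg => by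
    have hl : ga.hom.left.left ≫ (W a).ι = gb.hom.left.left ≫ (W b).ι :=
      congrArg (fun q : Z ⟶ E => q.hom.left.left) hg
    by_cases hab : a = b
    · subst hab
      have : ga = gb := EtOver.hom_ext _ _ (Over.OverMorphism.ext ((cancel_mono (W a).ι).1 hl))
      rw [this]
    · haveI : IsEmpty ↥Z.obj.left.left := ⟨fun z => by
        refine Set.disjoint_left.1 (Opens.coe_disjoint.2 (hd a b hab)) (ga.hom.left.left z).2 ?_
        show (W a).ι (ga.hom.left.left z) ∈ W b
        have h2 : (W a).ι (ga.hom.left.left z) = (W b).ι (gb.hom.left.left z) :=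
          (Scheme.Hom.comp_apply _ _ z).symm.trans ((congrArg (fun q => q z) hl).trans (Scheme.Hom.comp_apply _ _ z))
        exact h2 ▸ (gb.hom.left.left z).2⟩
      exact eq_of_cover_et hP Z (fun i : PEmpty.{1} => i.elim) (fun i => i.elim) (fun z => isEmptyElim z) _ _
        fun i => i.elim
  exact ⟨s, hs⟩

/-- Base change along an integral morphism keeps local surjectivity. -/
theorem isLocallySurjective_bc_et {f : X ⟶ Y} (hf : Representable f) (hint : RepWith @IsIntegralHom f)
    (hP : Presieve.IsSheaf (etTop X) P) (hP' : Presieve.IsSheaf (etTop X) P') (η : P ⟶ P')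
    [Presheaf.IsLocallySurjective (etTop X) η] :
    Presheaf.IsLocallySurjective (etTop Y) (Functor.whiskerLeft (EtOver.bc hf).op η) where
  imageSieve_mem {E} s := by
    let B := EtOver.bcObj hf E
    let π := (EtOver.bcπ hf E).left
    haveI : IsIntegralHom π := hint.property _ _ _ (EtOver.isPullback_bcObj hf E)
    choose T t hT y hy using (AlgSpRegLib.mem_etTop_iff _).1 (Presheaf.imageSieve_mem (etTop X) η (U := op B) s)
    haveI : ∀ z, Etale (t z).hom.left.left := fun z => EtOver.etale_left (t z)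
    let p := pullback.fst π (𝟙 E.obj.left.left)
    obtain ⟨κ, V, v, hv, hvc, hdec⟩ := EtSplitLib.propB_of_integral π E.obj.left.left (𝟙 _) ↥B.obj.left.left
      (fun z => (T z).obj.left.left) (fun z => (t z).hom.left.left ≫ inv p) (fun z => inferInstance)
      fun x => ⟨p x, y _, by
        rw [Scheme.Hom.comp_apply, hy, ← Scheme.Hom.comp_apply, IsIso.hom_inv_id]; rfl⟩
    let o : ∀ j, Over.mk (v j ≫ E.obj.left.hom) ⟶ E.obj.left := fun j => Over.homMk (v j)
    let E' : κ → EtOver Y := fun j => EtOver.mk ((yon S).map (o j) ≫ E.obj.hom)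
      (repWith_comp ((repWith_yon_map_iff (P := (@Etale : MorphismProperty Scheme.{u})) (o j)).2 (hv j)) E.property)
    let φ : ∀ j, E' j ⟶ E := fun j => EtOver.homMk (o j) rfl
    refine GrothendieckTopology.superset_covering _ ?_ (ofArrows_mem_etTop E' φ hvc)
    rintro _ _ ⟨_, q, _, ⟨j⟩, rfl⟩
    refine Sieve.downward_closed _ ?_ q
    obtain ⟨μ, U, hd, hc, hU⟩ := hdec j
    choose i h hh using hU
    have sq : IsPullback ((EtOver.bc hf).map (φ j)).hom.left.left (EtOver.bcπ hf (E' j)).left π (v j ≫ 𝟙 _) := by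
      rw [Category.comp_id]
      exact EtOver.isPullback_bcMap_left hf (φ j)
    let σ := sq.isoPullback
    let W : μ → (EtOver.bcObj hf (E' j)).obj.left.left.Opens := fun a => σ.hom ⁻¹ᵁ U a
    have hk : ∀ a, ((σ.hom ∣_ U a) ≫ h a) ≫ (t (i a)).hom.left.left =
        (W a).ι ≫ ((EtOver.bc hf).map (φ j)).hom.left.left := fun a => by
      have h1 := congrArg (· ≫ p) (hh a)
      simp only [p, Category.assoc, IsIso.inv_hom_id, Category.comp_id, pullback.map, pullback.lift_fst] at h1
      rw [Category.assoc, h1, ← Category.assoc, morphismRestrict_ι, Category.assoc]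
      exact congrArg _ sq.isoPullback_hom_fst
    let k : ∀ a, openEt (EtOver.bcObj hf (E' j)) (W a) ⟶ T (i a) := fun a =>
      EtOver.homMk (Over.homMk ((σ.hom ∣_ U a) ≫ h a) (by
        rw [← Over.w (t (i a)).hom.left, ← Category.assoc, hk a]
        exact (Category.assoc _ _ _).trans (congrArg _ (Over.w ((EtOver.bc hf).map (φ j)).hom.left)))) (by
        rw [← EtOver.w (t (i a)), ← Category.assoc, ← Functor.map_comp]
        refine Eq.trans (congrArg (fun q => (yon S).map q ≫ (unop (op B)).obj.hom)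
          (?_ : _ = (openEtHom _ (W a) ≫ (EtOver.bc hf).map (φ j)).hom.left)) (EtOver.w _)
        exact Over.OverMorphism.ext (hk a))
    have hk' : ∀ a, k a ≫ t (i a) = openEtHom _ (W a) ≫ (EtOver.bc hf).map (φ j) := fun a =>
      EtOver.hom_ext _ _ (Over.OverMorphism.ext (hk a))
    choose r hr using hT
    have hcov : ∀ z : (EtOver.bcObj hf (E' j)).obj.left.left, ∃ a, z ∈ W a := fun z => by
      obtain ⟨a, ha⟩ := Opens.mem_iSup.1 (show σ.hom z ∈ ⨆ a, U a by rw [hc]; trivial)
      exact ⟨a, ha⟩
    obtain ⟨s', hs'⟩ := exists_amalg_et hP _ W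
      (fun a b hab => by
        rw [← Opens.coe_disjoint]
        exact (Opens.coe_disjoint.2 (hd a b hab)).preimage _)
      (top_le_iff.1 fun z _ => Opens.mem_iSup.2 (hcov z))
      fun a => P.map (k a).op (r (i a))
    refine ⟨s', eq_of_cover_et hP' _ (fun a => openEt _ (W a)) (fun a => openEtHom _ (W a)) (fun z => ?_) _ _
      fun a => ?_⟩
    · obtain ⟨a, ha⟩ := hcov z
      exact ⟨a, ⟨z, ha⟩, rfl⟩
    · show P'.map (openEtHom _ (W a)).op (η.app _ s') =
        P'.map (openEtHom _ (W a)).op (P'.map ((EtOver.bc hf).map (φ j)).op s)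
      rw [← NatTrans.naturality_apply, hs', NatTrans.naturality_apply, hr, ← Functor.map_comp_apply, ← op_comp,
        hk', op_comp, Functor.map_comp_apply]
      rfl

variable {f : X ⟶ Y} (hf : Representable f)

theorem pushEt_preservesEpimorphisms (hint : RepWith @IsIntegralHom f) :
    (pushEt hf AddCommGrpCat.{u + 1}).PreservesEpimorphisms := by
  refine ⟨fun {G G'} φ _ => ?_⟩
  haveI : Sheaf.IsLocallySurjective φ := (Sheaf.isLocallySurjective_iff_epi' AddCommGrpCat.{u + 1} φ).2 inferInstance
  refine (Sheaf.isLocallySurjective_iff_epi' AddCommGrpCat.{u + 1} _).1 ?_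
  refine (Presheaf.isLocallySurjective_iff_whisker_forget _ _).2 ?_
  haveI := (Presheaf.isLocallySurjective_iff_whisker_forget _ φ.hom).1 ‹_›
  exact isLocallySurjective_bc_et hf hint
    ((isSheaf_iff_isSheaf_of_type _ _).1 ((Presheaf.isSheaf_iff_isSheaf_forget _ _ (forget _)).1 G.property))
    ((isSheaf_iff_isSheaf_of_type _ _).1 ((Presheaf.isSheaf_iff_isSheaf_forget _ _ (forget _)).1 G'.property))
    (Functor.whiskerRight φ.hom (forget _))

theorem pushEt_exact (hint : RepWith @IsIntegralHom f) :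
    PreservesFiniteColimits (pushEt hf AddCommGrpCat.{u + 1}) ∧
      ∀ (p : ℕ), 0 < p → ∀ F : AbEt X, IsZero ((RpushEt hf p).obj F) := by
  haveI := pushEt_preservesEpimorphisms hf hint
  haveI : (pushEt hf AddCommGrpCat.{u + 1}).IsRightAdjoint := (pullPushAdjEt hf AddCommGrpCat.{u + 1}).isRightAdjoint
  haveI : PreservesFiniteLimits (pushEt hf AddCommGrpCat.{u + 1}) := inferInstance
  haveI : (pushEt hf AddCommGrpCat.{u + 1}).PreservesHomology :=
    Functor.preservesHomology_of_preservesEpis_and_kernels _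
  refine ⟨Functor.preservesFiniteColimits_of_preservesHomology _, fun p hp F => ?_⟩
  obtain ⟨n, rfl⟩ : ∃ n, p = n + 1 := ⟨p - 1, by omega⟩
  let R : InjectiveResolution F := injectiveResolution F
  refine IsZero.of_iso ?_ (R.isoRightDerivedObj (pushEt hf AddCommGrpCat.{u + 1}) (n + 1))
  exact (ShortComplex.exact_iff_isZero_homology _).1 ((R.cocomplex_exactAt_succ n).map (pushEt hf AddCommGrpCat.{u + 1}))

end EtThickLib
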