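import Groth.Prelude.Def_AlgSpOX3
import Groth.Agent.EtThickLib.PushDense
import Groth.Agent.AlgSpRegLib.EnoughPoints

/-!
# Stalks of direct images along integral universally injective morphisms
-/

set_option autoImplicit false
set_option linter.all false
set_option backward.isDefEq.respectTransparency false
set_option backward.isDefEq.respectTransparency.types false
set_option maxHeartbeats 800000

noncomputable section

universe u

open CategoryTheory CategoryTheory.Limits AlgebraicGeometry AlgSp AlgSpLib Opposite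

namespace EtThickLib

variable {S : Scheme.{u}} {Y X : Sp S} {f : Y ⟶ X} (hf : Representable f) (z : FieldPt Y)

theorem nbhd_comm (N : EtNbhd (z.map f)) : z.toHom ≫ f = (yon S).map N.2.1 ≫ N.1.obj.hom :=
  (N.2.2.trans (FieldPt.toHom_map f z)).symm

/-- Base change of neighbourhoods. -/
def nbhdFunctor : EtNbhd (z.map f) ⥤ EtNbhd z where
  obj N := ⟨(EtOver.bc hf).obj N.1, ⟨hf.lift z.toHom N.2.1 (nbhd_comm z N), hf.lift_fst _ _ _⟩⟩
  map {N N'} g := CategoryOfElements.homMk _ _ ((EtOver.bc hf).map g.1) (Subtype.ext (by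
    rw [FieldPt.liftsTo_map_coe]
    apply hf.hom_ext
    · rw [Functor.map_comp, Category.assoc, EtOver.bc_map, EtOver.map_bcMap_fst, hf.lift_fst]
      exact (hf.lift_fst _ _ _).symm
    · rw [Category.assoc, EtOver.bc_map, EtOver.bcMap_snd, hf.lift_snd_assoc, hf.lift_snd]
      exact congrArg Subtype.val g.2))
  map_id N := Subtype.ext ((EtOver.bc hf).map_id _)
  map_comp g g' := Subtype.ext ((EtOver.bc hf).map_comp _ _)

theorem initial_nbhdFunctor (hY : IsAlgSpace Y) (hX : IsAlgSpace X) (h : IsIR (f := f)) (hz : z.IsGeometric) :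
    (nbhdFunctor hf z).Initial := by
  haveI := isCoverDense_bc hf hX h
  haveI := isLocallyFull_bc hf h
  haveI : IsCofiltered (EtNbhd z) := isCofiltered_etNbhd hY z hz
  have hz' : (z.map f).IsGeometric := hz
  haveI : IsCofiltered (EtNbhd (z.map f)) := isCofiltered_etNbhd hX (z.map f) hz'
  have key : ∀ M : EtNbhd z, ∃ N, Nonempty ((nbhdFunctor hf z).obj N ⟶ M) := fun M => by
    obtain ⟨Z, g, hg, y, hy⟩ := (AlgSpRegLib.mem_etTop_iff _).1 (Functor.IsCoverDense.is_cover (G := EtOver.bc hf)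
      (K := etTop Y) M.1) (M.2.1.left (IsLocalRing.closedPoint z.K))
    obtain ⟨l, hl⟩ := AlgSpRegLib.exists_refine z hz M g y hy
    obtain ⟨⟨E, k, m, hkm⟩⟩ := hg
    let l' := (FieldPt.liftsTo z).map k l
    have hn : (yon S).map (l'.1 ≫ EtOver.bcπ hf E) ≫ E.obj.hom = (z.map f).toHom := by
      rw [Functor.map_comp, Category.assoc, ← (EtOver.isPullback_bcObj hf E).w, ← Category.assoc]
      exact (congrArg (· ≫ f) l'.2).trans (FieldPt.toHom_map f z).symm
    let N : EtNbhd (z.map f) := ⟨E, ⟨l'.1 ≫ EtOver.bcπ hf E, hn⟩⟩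
    have e1 : ((nbhdFunctor hf z).obj N).2.1 = l'.1 :=
      hf.hom_ext ((hf.lift_fst _ _ _).trans l'.2.symm) (hf.lift_snd _ _ _)
    refine ⟨N, ⟨CategoryOfElements.homMk _ _ m (Subtype.ext ?_)⟩⟩
    refine (FieldPt.liftsTo_map_coe z m _).trans ((congrArg (· ≫ m.hom.left) e1).trans ?_)
    rw [← hl, FieldPt.liftsTo_map_coe, FieldPt.liftsTo_map_coe, Category.assoc]
    exact congrArg (l.1 ≫ ·) (congrArg (fun t => t.hom.left) hkm)
  refine Functor.initial_of_exists_of_isCofiltered _ key fun {M N} a b => ?_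
  obtain ⟨N', ⟨c⟩⟩ := key (IsCofiltered.eq a b)
  let c' := c ≫ IsCofiltered.eqHom a b
  obtain ⟨Z, g, hg, y, hy⟩ := (AlgSpRegLib.mem_etTop_iff _).1
    (Functor.IsLocallyFull.functorPushforward_imageSieve_mem (G := EtOver.bc hf) (K := etTop Y) c'.1)
    (((nbhdFunctor hf z).obj N').2.1.left (IsLocalRing.closedPoint z.K))
  obtain ⟨l, hl⟩ := AlgSpRegLib.exists_refine z hz ((nbhdFunctor hf z).obj N') g y hy
  obtain ⟨V, v, k, ⟨e, he⟩, hgv⟩ := hg
  let l' := (FieldPt.liftsTo z).map k l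
  have hl' : l'.1 ≫ ((EtOver.bc hf).map v).hom.left = ((nbhdFunctor hf z).obj N').2.1 := by
    rw [← hl, FieldPt.liftsTo_map_coe, FieldPt.liftsTo_map_coe, Category.assoc]
    exact congrArg (l.1 ≫ ·) (congrArg (fun t => t.hom.left) hgv).symm
  let N'' : EtNbhd (z.map f) := ⟨V, ⟨l'.1 ≫ EtOver.bcπ hf V, by
    rw [Functor.map_comp, Category.assoc, ← (EtOver.isPullback_bcObj hf V).w, ← Category.assoc]
    exact (congrArg (· ≫ f) l'.2).trans (FieldPt.toHom_map f z).symm⟩⟩
  have hlift : ((nbhdFunctor hf z).obj N'').2.1 = l'.1 :=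
    hf.hom_ext ((hf.lift_fst _ _ _).trans l'.2.symm) (hf.lift_snd _ _ _)
  have hc' : ((nbhdFunctor hf z).obj N').2.1 ≫ c'.1.hom.left = ((nbhdFunctor hf z).obj N).2.1 :=
    (FieldPt.liftsTo_map_coe z c'.1 _).symm.trans (congrArg Subtype.val c'.2)
  let t : N'' ⟶ N := CategoryOfElements.homMk _ _ e (Subtype.ext (by
    rw [FieldPt.liftsTo_map_coe]
    change (l'.1 ≫ EtOver.bcπ hf V) ≫ e.hom.left = N.2.1
    rw [Category.assoc, ← EtOver.bcMap_snd hf e]
    change l'.1 ≫ ((EtOver.bc hf).map e).hom.left ≫ _ = _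
    rw [he]
    change l'.1 ≫ (((EtOver.bc hf).map v).hom.left ≫ c'.1.hom.left) ≫ _ = _
    rw [Category.assoc, reassoc_of% hl', reassoc_of% hc']
    exact hf.lift_snd _ _ _))
  refine ⟨N'', t, Subtype.ext ?_⟩
  change (EtOver.bc hf).map e ≫ a.1 = (EtOver.bc hf).map e ≫ b.1
  rw [he, Category.assoc, Category.assoc]
  have e2 : c'.1 ≫ a.1 = c'.1 ≫ b.1 := by
    have h0 : c' ≫ a = c' ≫ b := (Category.assoc _ _ _).trans ((congrArg (c ≫ ·) (IsCofiltered.eq_condition a b)).trans (Category.assoc _ _ _).symm)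
    exact congrArg Subtype.val h0
  rw [e2]

/-- The stalk of a direct image. -/
theorem exists_stalk_equiv (hY : IsAlgSpace Y) (hX : IsAlgSpace X) (h : IsIR (f := f)) (hz : z.IsGeometric)
    (F : EtSh Y (Type (u + 1))) :
    ∃ φ : stalkEt (z.map f) ((pushEt hf (Type (u + 1))).obj F) ≃ stalkEt z F,
      ∀ (N : EtNbhd (z.map f)) (s : F.obj.obj (op ((EtOver.bc hf).obj N.1))),
        φ (stalkEtι (z.map f) ((pushEt hf (Type (u + 1))).obj F) N s) =
          stalkEtι z F ((nbhdFunctor hf z).obj N) s := by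
  haveI := initial_nbhdFunctor hf z hY hX h hz
  let e₁ : stalkEtDiagram (z.map f) ((pushEt hf (Type (u + 1))).obj F) ≅
      (nbhdFunctor hf z).op ⋙ stalkEtDiagram z F := NatIso.ofComponents (fun N => Iso.refl _) (fun g => by rfl)
  let e := HasColimit.isoOfNatIso e₁ ≪≫ Functor.Final.colimitIso (nbhdFunctor hf z).op (stalkEtDiagram z F)
  refine ⟨e.toEquiv, fun N s => ?_⟩
  have h1 : stalkEtι (z.map f) ((pushEt hf (Type (u + 1))).obj F) N ≫ e.hom =
      stalkEtι z F ((nbhdFunctor hf z).obj N) := by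
    simp only [e, Iso.trans_hom]
    erw [HasColimit.isoOfNatIso_ι_hom_assoc]
    simp only [e₁, NatIso.ofComponents_hom_app, Iso.refl_hom]
    erw [Category.id_comp, Functor.Final.ι_colimitIso_hom]
    rfl
  exact ConcreteCategory.congr_hom h1 s

end EtThickLib
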