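import Groth.Agent.EtThickLib.UHLift
import Groth.Agent.AlgSpLib.Bootstrap
import Groth.Agent.AlgSpLib.Descend
import Groth.Agent.AlgSpLib.LocP
import Groth.Agent.EtInvLib.Equiv
import Groth.Agent.UHomeoLib.Push
import Groth.Agent.S0075

/-!
# Spaces etale over the source of a universal homeomorphism descend
-/

set_option autoImplicit false
set_option linter.all false
set_option backward.isDefEq.respectTransparency false
set_option backward.isDefEq.respectTransparency.types false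

noncomputable section

universe u

open CategoryTheory CategoryTheory.Limits AlgebraicGeometry AlgSp AlgSpLib

namespace EtThickLib

variable {S : Scheme.{u}}

/-- Etale schemes lift along a universal homeomorphism of schemes. -/
theorem exists_lift_over_uh {U U₀ V₀ : Over S} (j : U₀ ⟶ U) (hj : IsUH ((yon S).map j)) (p₀ : V₀ ⟶ U₀)
    (hp₀ : Etale p₀.left) :
    ∃ (V : Over S) (p : V ⟶ U) (Φ : V₀ ⟶ V), Etale p.left ∧ IsPullback Φ p₀ p j := by
  haveI : IsIntegralHom j.left :=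
    (repWith_yon_map_iff (P := (@IsIntegralHom : MorphismProperty Scheme.{u})) j).1 hj.integral
  haveI : UniversallyInjective j.left :=
    (repWith_yon_map_iff (P := (@UniversallyInjective : MorphismProperty Scheme.{u})) j).1 hj.radicial
  haveI : Surjective j.left :=
    (repWith_yon_map_iff (P := (@Surjective : MorphismProperty Scheme.{u})) j).1 hj.surj
  obtain ⟨W, p, Φ, hp, sq⟩ := EtInvLib.exists_lift_of_local
    (fun x => UHomeo.exists_liftData j.left p₀.left x)
  refine ⟨Over.mk (p ≫ U.hom), Over.homMk p, Over.homMk Φ ?_, hp, IsPullback.of_map (Over.forget S) ?_ ?_⟩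
  · change Φ ≫ p ≫ U.hom = V₀.hom
    rw [reassoc_of% sq.w, Over.w j, Over.w p₀]
  · exact Over.OverMorphism.ext sq.w
  · exact sq

theorem epi_of_cover {F G : Sp S} {f : F ⟶ G} (he : RepWith @Etale f) (hs : RepWith @Surjective f) :
    Epi f := by
  haveI := isLocallySurjective_of_repWith (repWith_mono (fun _ _ g (hg : Etale g) => inferInstanceAs (Flat g)) he)
    (repWith_mono (fun _ _ g (hg : Etale g) => inferInstanceAs (LocallyOfFinitePresentation g)) he) hs
  exact Sheaf.epi_of_isLocallySurjective f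

/-- A morphism into an etale space is determined by its restriction. -/
theorem IsUH.eq_of_restrict {Y : Sp S} (hY : IsAlgSpace Y) {T T₀ V : Over S} {ι : T₀ ⟶ T}
    (hι : IsUH ((yon S).map ι)) {e : (yon S).obj V ⟶ Y} (he : RepWith @Etale e) {v v' : T ⟶ V}
    (h : (yon S).map v ≫ e = (yon S).map v' ≫ e) (h₀ : ι ≫ v = ι ≫ v') : v = v' :=
  (yon S).map_injective (lift_unique (map_surjective_of_repWith hι.surj)
    (openImmersion_diagonal_of_isEtaleMor (IsAlgSpace.yon_obj V) hY (isEtaleMor_of_repWith he))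
    (by rw [← Functor.map_comp, ← Functor.map_comp, h₀]) h)

/-- A morphism into an etale scheme extends. -/
theorem IsUH.exists_extend {Y : Sp S} (hY : IsAlgSpace Y) {T T₀ V : Over S} {ι : T₀ ⟶ T}
    (hι : IsUH ((yon S).map ι)) {e : (yon S).obj V ⟶ Y} (he : RepWith @Etale e) (a : T₀ ⟶ V)
    (g : (yon S).obj T ⟶ Y) (w : (yon S).map a ≫ e = (yon S).map ι ≫ g) :
    ∃ v : T ⟶ V, ι ≫ v = a ∧ (yon S).map v ≫ e = g := by
  obtain ⟨l, ⟨hl₁, hl₂⟩, -⟩ := hι.existsUnique_lift (IsAlgSpace.yon_obj T₀) (IsAlgSpace.yon_obj T)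
    (IsAlgSpace.yon_obj V) hY (isEtaleMor_of_repWith he) ((yon S).map a) g w
  obtain ⟨v, rfl⟩ := (yon S).map_surjective l
  exact ⟨v, (yon S).map_injective (by rw [Functor.map_comp, hl₁]), hl₂⟩

/-- Every space etale over the source of a universal homeomorphism descends. -/
theorem IsUH.exists_lift_space {F Y A : Sp S} {i : F ⟶ Y} (hF : IsAlgSpace F) (hY : IsAlgSpace Y) (hi : IsUH i)
    (hA : IsAlgSpace A) {a₀ : A ⟶ F} (ha₀ : IsEtaleMor a₀) :
    ∃ (E : Sp S) (aE : E ⟶ Y) (k : A ⟶ E), IsAlgSpace E ∧ IsEtaleMor aE ∧ IsPullback a₀ k i aE := by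
  obtain ⟨U, b, hb, hbs⟩ := hY.atlas
  let irep : Representable i := hi.integral.rep
  let U₀ := irep.pullback b
  let j : U₀ ⟶ U := irep.snd b
  let b₀ : (yon S).obj U₀ ⟶ F := irep.fst b
  have sqU : IsPullback b₀ ((yon S).map j) i b := irep.isPullback b
  have hj : IsUH ((yon S).map j) := hi.of_isPullback sqU
  have hb₀ : RepWith @Etale b₀ := repWith_of_isPullback sqU.flip hb
  have hb₀s : RepWith @Surjective b₀ := repWith_of_isPullback sqU.flip hbs
  -- a chart of the pullback to the chart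
  have sqP := IsPullback.of_hasPullback a₀ b₀
  have hP : IsAlgSpace (pullback a₀ b₀) := isAlgSpace_pullback hA (IsAlgSpace.yon_obj U₀) hF a₀ b₀
  obtain ⟨V₀, cP, hcP, hcPs⟩ := hP.atlas
  let m : (yon S).obj V₀ ⟶ A := cP ≫ pullback.fst a₀ b₀
  obtain ⟨p₀, hp₀'⟩ := (yon S).map_surjective (cP ≫ pullback.snd a₀ b₀)
  have hm : RepWith @Etale m := repWith_comp hcP (repWith_of_isPullback sqP.flip hb₀)
  have hms : RepWith @Surjective m := repWith_comp hcPs (repWith_of_isPullback sqP.flip hb₀s)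
  haveI := epi_of_cover hm hms
  have hp₀ : Etale p₀.left := (isEtaleMor_yon_map_iff p₀).1 (hp₀' ▸ isEtaleMor_comp
    (isEtaleMor_of_isPullback hA hF (IsAlgSpace.yon_obj U₀) sqP ha₀) (isEtaleMor_of_repWith hcP))
  have hma₀ : m ≫ a₀ = (yon S).map p₀ ≫ b₀ := by
    rw [hp₀', Category.assoc, Category.assoc, pullback.condition]
  clear_value m
  obtain ⟨V, p, Φ, hp, sqΦ⟩ := exists_lift_over_uh j hj p₀ hp₀
  let e : (yon S).obj V ⟶ Y := (yon S).map p ≫ b
  have sqV : IsPullback (m ≫ a₀) ((yon S).map Φ) i e := by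
    rw [hma₀]
    exact (sqΦ.map (yon S)).flip.paste_horiz sqU
  have he : RepWith @Etale e :=
    repWith_comp ((repWith_yon_map_iff (P := (@Etale : MorphismProperty Scheme.{u})) p).2 hp) hb
  have hΦ : IsUH ((yon S).map Φ) := hi.of_isPullback sqV
  have zext : ∀ {Z : Over S} {z z' : Z ⟶ V₀}, z ≫ Φ = z' ≫ Φ →
      (yon S).map z ≫ m ≫ a₀ = (yon S).map z' ≫ m ≫ a₀ → z = z' := fun {Z z z'} h h' =>
    (yon S).map_injective (sqV.hom_ext h' (by rw [← Functor.map_comp, ← Functor.map_comp, h]))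
  -- the kernel pair on the source
  let Q₀ := hm.1.pullback m
  let q₀ : Q₀ ⟶ V₀ := hm.1.snd m
  obtain ⟨q₀', hq₀'⟩ := (yon S).map_surjective (hm.1.fst m)
  have sqQ0 : IsPullback ((yon S).map q₀') ((yon S).map q₀) m m := hq₀' ▸ hm.1.isPullback m
  obtain ⟨Q, q, ΦQ, hq, sqQ⟩ := exists_lift_over_uh Φ hΦ q₀
    ((repWith_yon_map_iff (P := (@Etale : MorphismProperty Scheme.{u})) q₀).1 (repWith_of_isPullback sqQ0 hm))
  have hΦQ : IsUH ((yon S).map ΦQ) := hΦ.of_isPullback ((sqQ.map (yon S)).flip)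
  have hqe : RepWith @Etale ((yon S).map q) :=
    (repWith_yon_map_iff (P := (@Etale : MorphismProperty Scheme.{u})) q).2 hq
  obtain ⟨q', hq'₁, hq'₂⟩ := hΦQ.exists_extend hY he (q₀' ≫ Φ) ((yon S).map q ≫ e) (by
    rw [← Category.assoc ((yon S).map ΦQ), ← Functor.map_comp, sqQ.w]
    simp only [Functor.map_comp, Category.assoc, ← sqV.w]
    rw [sqQ0.w_assoc])
  have hq' : Etale q'.left :=
    (isEtaleMor_yon_map_iff q').1 (isEtaleMor_of_comp (IsAlgSpace.yon_obj V) (f := (yon S).map q') (g := e)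
      (hq'₂ ▸ isEtaleMor_of_repWith (repWith_comp hqe he)) (isEtaleMor_of_repWith he))
  -- restriction of points
  have restrict : ∀ {Z : Over S} (v : Z ⟶ V) (g₀ : (yon S).obj Z ⟶ F), g₀ ≫ i = (yon S).map v ≫ e →
      ∃ z₀ : Z ⟶ V₀, z₀ ≫ Φ = v ∧ (yon S).map z₀ ≫ m ≫ a₀ = g₀ := fun {Z} v g₀ h => by
    obtain ⟨z₀, hz⟩ := (yon S).map_surjective (sqV.lift g₀ ((yon S).map v) h)
    exact ⟨z₀, (yon S).map_injective (by rw [Functor.map_comp, hz, sqV.lift_snd]), by rw [hz, sqV.lift_fst]⟩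
  have e_of : ∀ {Z : Over S} (z₀ : Z ⟶ V₀), (yon S).map (z₀ ≫ Φ) ≫ e = ((yon S).map z₀ ≫ m ≫ a₀) ≫ i :=
    fun z₀ => by rw [Functor.map_comp, Category.assoc, ← sqV.w]; simp only [Category.assoc]
  let rel : ∀ T : Over S, (T ⟶ V) → (T ⟶ V) → Prop := fun T v v' => (yon S).map v ≫ e = (yon S).map v' ≫ e ∧
    ∀ (Z : Over S) (z : Z ⟶ T) (z₀ z₀' : Z ⟶ V₀), z₀ ≫ Φ = z ≫ v → z₀' ≫ Φ = z ≫ v' →
      (yon S).map z₀ ≫ m ≫ a₀ = (yon S).map z₀' ≫ m ≫ a₀ →
      (yon S).map z₀ ≫ m = (yon S).map z₀' ≫ m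
  have key : ∀ (T : Over S) (v v' : T ⟶ V), (∃ r : T ⟶ Q, r ≫ q' = v ∧ r ≫ q = v') ↔ rel T v v' := by
    intro T v v'
    constructor
    · rintro ⟨r, rfl, rfl⟩
      refine ⟨by simp only [Functor.map_comp, Category.assoc, hq'₂], fun Z z z₀ z₀' h h' hg => ?_⟩
      obtain ⟨r₀, hr₁, hr₂⟩ : ∃ r₀ : Z ⟶ Q₀, r₀ ≫ ΦQ = z ≫ r ∧ r₀ ≫ q₀ = z₀' :=
        ⟨sqQ.lift (z ≫ r) z₀' (by rw [h', Category.assoc]), sqQ.lift_fst _ _ _, sqQ.lift_snd _ _ _⟩
      have hr₃ : r₀ ≫ q₀' = z₀ := zext (by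
        rw [Category.assoc, ← hq'₁, ← Category.assoc, hr₁, Category.assoc, h]) (by
        rw [hg, ← hr₂, Functor.map_comp, Functor.map_comp, Category.assoc, Category.assoc, sqQ0.w_assoc])
      rw [← hr₂, ← hr₃, Functor.map_comp, Functor.map_comp, Category.assoc, Category.assoc, sqQ0.w]
    · rintro ⟨he', hm'⟩
      let g := (yon S).map v' ≫ e
      let T₀ := irep.pullback g
      let ι : T₀ ⟶ T := irep.snd g
      have sqT : IsPullback (irep.fst g) ((yon S).map ι) i g := irep.isPullback g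
      have hι : IsUH ((yon S).map ι) := hi.of_isPullback sqT
      obtain ⟨z₀, hz, hzg⟩ := restrict (ι ≫ v) (irep.fst g)
        (by rw [sqT.w, Functor.map_comp, Category.assoc, he'])
      obtain ⟨z₀', hz', hzg'⟩ := restrict (ι ≫ v') (irep.fst g) (by rw [sqT.w, Functor.map_comp, Category.assoc])
      obtain ⟨r₀, hr₀⟩ := (yon S).map_surjective
        (sqQ0.lift ((yon S).map z₀) ((yon S).map z₀') (hm' _ ι z₀ z₀' hz hz' (hzg.trans hzg'.symm)))
      have hr₁ : r₀ ≫ q₀' = z₀ := (yon S).map_injective (by rw [Functor.map_comp, hr₀, sqQ0.lift_fst])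
      have hr₂ : r₀ ≫ q₀ = z₀' := (yon S).map_injective (by rw [Functor.map_comp, hr₀, sqQ0.lift_snd])
      obtain ⟨r, hr, hrq⟩ := hι.exists_extend (IsAlgSpace.yon_obj V) hqe (r₀ ≫ ΦQ) ((yon S).map v') (by
        rw [← Functor.map_comp, ← Functor.map_comp, Category.assoc, sqQ.w, reassoc_of% hr₂, hz'])
      have hrq' : r ≫ q = v' := (yon S).map_injective (by rw [Functor.map_comp, hrq])
      refine ⟨r, hι.eq_of_restrict hY he ?_ ?_, hrq'⟩
      · rw [Functor.map_comp, Category.assoc, hq'₂, ← Category.assoc, hrq, he']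
      · rw [reassoc_of% hr, hq'₁, reassoc_of% hr₁, hz]
  have hrel : IsEtaleEqvRel q q' :=
    { injective := fun T r r' h₁ h₂ => by
        let g := (yon S).map (r ≫ q) ≫ e
        let ι : irep.pullback g ⟶ T := irep.snd g
        have sqT : IsPullback (irep.fst g) ((yon S).map ι) i g := irep.isPullback g
        obtain ⟨z₀', hz', -⟩ := restrict (ι ≫ r ≫ q) (irep.fst g) (by rw [sqT.w, Functor.map_comp _ ι, Category.assoc])
        let r₀ := sqQ.lift (ι ≫ r) z₀' (by rw [hz', Category.assoc])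
        let r₀' := sqQ.lift (ι ≫ r') z₀' (by rw [hz', Category.assoc, h₂])
        have hfst : r₀ ≫ ΦQ = ι ≫ r := sqQ.lift_fst _ _ _
        have hfst' : r₀' ≫ ΦQ = ι ≫ r' := sqQ.lift_fst _ _ _
        have hsnd : r₀ ≫ q₀ = r₀' ≫ q₀ := by simp [r₀, r₀']
        have hq₀ : r₀ ≫ q₀' = r₀' ≫ q₀' := zext (by
          rw [Category.assoc, Category.assoc, ← hq'₁, reassoc_of% hfst, reassoc_of% hfst', h₁]) (by
          simp only [Functor.map_comp, Category.assoc, sqQ0.w_assoc]
          rw [← Category.assoc, ← Functor.map_comp, hsnd, Functor.map_comp, Category.assoc])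
        have : r₀ = r₀' := (yon S).map_injective (sqQ0.hom_ext
          (by rw [← Functor.map_comp, ← Functor.map_comp, hq₀]) (by rw [← Functor.map_comp, ← Functor.map_comp, hsnd]))
        refine (hi.of_isPullback sqT).eq_of_restrict (IsAlgSpace.yon_obj V) hqe
          (by rw [← Functor.map_comp, ← Functor.map_comp, h₂]) ?_
        rw [← hfst, ← hfst', this]
      equivalence := fun T => by
        simp only [key]
        refine ⟨fun v => ⟨rfl, fun Z z z₀ z₀' h h' hg => ?_⟩, fun {v v'} h => ⟨h.1.symm, fun Z z z₀ z₀' a a' hg =>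
          (h.2 Z z z₀' z₀ a' a hg.symm).symm⟩,
          fun {v v' v''} h h' => ⟨h.1.trans h'.1, fun Z z z₀ z₀'' a a'' hg => ?_⟩⟩
        · rw [zext (h.trans h'.symm) hg]
        · obtain ⟨z₀', a', hg'⟩ := restrict (z ≫ v') ((yon S).map z₀ ≫ m ≫ a₀)
            (by rw [← e_of, a, Functor.map_comp, Functor.map_comp, Category.assoc, Category.assoc, h.1])
          exact (h.2 Z z z₀ z₀' a a' hg'.symm).trans (h'.2 Z z z₀' z₀'' a' a'' (hg'.trans hg))
      etale_left := hq
      etale_right := hq' }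
  -- the space
  have hπ := isPresentation_qπ q q' hrel
  have hE : IsAlgSpace (QuotSh.quot Scheme.fppfPrecoverage q q') := isAlgSpace_quot q q' hrel
  have hker : ∀ {Z : Over S} (v v' : Z ⟶ V), (yon S).map v ≫ qπ q q' = (yon S).map v' ≫ qπ q q' → rel Z v v' := by
    intro Z v v' h
    obtain ⟨r, hr⟩ := (yon S).map_surjective (hπ.isPullback.lift _ _ h)
    exact (key Z v v').1 ⟨r, (yon S).map_injective (by rw [Functor.map_comp, hr, hπ.isPullback.lift_fst]),
      (yon S).map_injective (by rw [Functor.map_comp, hr, hπ.isPullback.lift_snd])⟩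
  haveI := epi_of_cover hπ.etale hπ.surjective
  obtain ⟨a, ha⟩ := exists_desc_of_atlas hπ.etale hπ.surjective e fun Z g g' h => (hker g g' h).1
  obtain ⟨k, hk⟩ := exists_desc_of_atlas hm hms ((yon S).map Φ ≫ qπ q q') fun Z z z' h => by
    obtain ⟨r₀, hr₀⟩ := (yon S).map_surjective (sqQ0.lift _ _ h)
    have h₁ : (yon S).map r₀ ≫ (yon S).map q₀' = (yon S).map z := by rw [hr₀, sqQ0.lift_fst]
    have h₂ : (yon S).map r₀ ≫ (yon S).map q₀ = (yon S).map z' := by rw [hr₀, sqQ0.lift_snd]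
    rw [← h₁, ← h₂, Category.assoc, Category.assoc, ← (yon S).map_comp_assoc q₀' Φ, ← hq'₁,
      ← (yon S).map_comp_assoc q₀ Φ, ← sqQ.w, Functor.map_comp, Functor.map_comp, Category.assoc,
      Category.assoc, hπ.isPullback.w]
  have hcomm : a₀ ≫ i = k ≫ a := by
    rw [← cancel_epi m, reassoc_of% hk, ha, ← sqV.w, Category.assoc]
  have hae : IsEtaleMor a := (isEtaleMor_iff_locP hY).2 (locP_of_cover (ι := PUnit) hE
    (fun _ => IsAlgSpace.yon_obj V) (fun _ => qπ q q') (fun _ => isEtaleMor_of_repWith hπ.etale)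
    (fun y => ⟨⟨⟩, map_surjective_of_repWith hπ.surjective y⟩)
    (fun _ => by rw [ha]; exact locP_of_repWith he))
  refine ⟨_, a, k, hE, hae, isPullback_of_forall_existsUnique hcomm fun T x y h => ?_⟩
  let c : hπ.etale.1.pullback y ⟶ T := hπ.etale.1.snd y
  obtain ⟨v, hv⟩ := (yon S).map_surjective (hπ.etale.1.fst y)
  have sqc : IsPullback ((yon S).map v) ((yon S).map c) (qπ q q') y := hv ▸ hπ.etale.1.isPullback y
  have hce : RepWith @Etale ((yon S).map c) := repWith_of_isPullback sqc hπ.etale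
  have hcs : RepWith @Surjective ((yon S).map c) := repWith_of_isPullback sqc hπ.surjective
  haveI := epi_of_cover hce hcs
  have hve : ((yon S).map c ≫ x) ≫ i = (yon S).map v ≫ e := by
    rw [Category.assoc, h, ← sqc.w_assoc, ha]
  obtain ⟨z₀, hz, hzg⟩ := restrict v _ hve
  obtain ⟨l, hl⟩ := exists_desc_of_atlas hce hcs ((yon S).map z₀ ≫ m) fun Z g g' hg => by
    have hgv : (yon S).map (g ≫ v) ≫ qπ q q' = (yon S).map (g' ≫ v) ≫ qπ q q' := by
      rw [Functor.map_comp, Functor.map_comp, Category.assoc, Category.assoc, sqc.w, reassoc_of% hg]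
    simp only [← Functor.map_comp_assoc]
    refine (hker _ _ hgv).2 Z (𝟙 Z) (g ≫ z₀) (g' ≫ z₀) (by rw [Category.assoc, hz, Category.id_comp])
      (by rw [Category.assoc, hz, Category.id_comp]) ?_
    rw [Functor.map_comp, Functor.map_comp, Category.assoc, Category.assoc, hzg, reassoc_of% hg]
  have hla : l ≫ a₀ = x := by
    rw [← cancel_epi ((yon S).map c), reassoc_of% hl, hzg]
  have hlk : l ≫ k = y := by
    rw [← cancel_epi ((yon S).map c), reassoc_of% hl, hk, ← Functor.map_comp_assoc, hz, sqc.w]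
  refine ⟨l, ⟨hla, hlk⟩, fun l' hl' => ?_⟩
  -- lift both points to the chart
  let c' : hm.1.pullback l' ⟶ T := hm.1.snd l'
  obtain ⟨z₁, hz₁⟩ := (yon S).map_surjective (hm.1.fst l')
  have sq₁ : IsPullback ((yon S).map z₁) ((yon S).map c') m l' := hz₁ ▸ hm.1.isPullback l'
  haveI := epi_of_cover (repWith_of_isPullback sq₁ hm) (repWith_of_isPullback sq₁ hms)
  let l₁ := (yon S).map c' ≫ l
  let c'' : hm.1.pullback l₁ ⟶ hm.1.pullback l' := hm.1.snd l₁
  obtain ⟨z₂, hz₂⟩ := (yon S).map_surjective (hm.1.fst l₁)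
  have sq₂ : IsPullback ((yon S).map z₂) ((yon S).map c'') m l₁ := hz₂ ▸ hm.1.isPullback l₁
  haveI := epi_of_cover (repWith_of_isPullback sq₂ hm) (repWith_of_isPullback sq₂ hms)
  have e1 : l₁ ≫ k = (yon S).map c' ≫ y := by rw [Category.assoc, hlk]
  have e2 : l₁ ≫ a₀ = (yon S).map c' ≫ x := by rw [Category.assoc, hla]
  have key2 : (yon S).map (c'' ≫ z₁) ≫ m = (yon S).map z₂ ≫ m := by
    refine (hker ((c'' ≫ z₁) ≫ Φ) (z₂ ≫ Φ) ?_).2 _ (𝟙 _) (c'' ≫ z₁) z₂ (Category.id_comp _).symm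
      (Category.id_comp _).symm ?_
    · simp only [Functor.map_comp, Category.assoc]
      rw [← hk, sq₁.w_assoc, sq₂.w_assoc, e1, hl'.2]
    · simp only [Functor.map_comp, Category.assoc]
      rw [sq₁.w_assoc, sq₂.w_assoc, e2, hl'.1]
  rw [← cancel_epi ((yon S).map c'), ← cancel_epi ((yon S).map c'')]
  rw [Functor.map_comp, Category.assoc, sq₁.w, sq₂.w] at key2
  exact key2

end EtThickLib
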